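import Cfsg.Agent.Classification.PSLTwoGeneral.Field
import Cfsg.Agent.FrobComp.FreeAction

/-!
# A regular fixed-point-free group has a small centre unless it is abelian
-/

set_option autoImplicit false
set_option linter.style.haveILetI false

namespace CfsgLib.Zassenhaus.Even

/-- A non-abelian group regular on the non-zero elements of an abelian group cannot have
`|E| ≤ 12 |Z(E)|`, `6 ∣ |Z(E)|` and `72 ∣ |E|`. -/
theorem false_of_large_center {E : Type*} [Group E] [Finite E] {K : Type*} [AddCommGroup K]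
    [Finite K] (ρ : E →* AddMonoid.End K) (hfree : FrobComp.IsFree ρ)
    (htrans : ∀ x y : K, x ≠ 0 → y ≠ 0 → ∃ e, ρ e x = y) (hK : Nat.card K = Nat.card E + 1)
    (h72 : 72 ∣ Nat.card E) (hle : Nat.card E ≤ 12 * Nat.card (Subgroup.center E))
    (h6 : 6 ∣ Nat.card (Subgroup.center E)) (hna : ∃ a b : E, a * b ≠ b * a) : False := by
  classical
  obtain ⟨a, b, hab⟩ := hna
  haveI : Nontrivial K := Finite.one_lt_card_iff_nontrivial.1 (by
    rw [hK]; have := Nat.card_pos (α := E); omega)
  obtain ⟨v, hv⟩ := exists_ne (0 : K)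
  have hcomm : ∀ (z : Subgroup.center E) (e : E) (x : K), ρ z (ρ e x) = ρ e (ρ z x) := by
    intro z e x
    show (ρ z * ρ e) x = (ρ e * ρ z) x
    rw [← map_mul, ← map_mul, Subgroup.mem_center_iff.1 z.2 e]
  by_cases hirr : ∀ W : AddSubgroup K,
      (∀ z : Subgroup.center E, ∀ x ∈ W, ρ z x ∈ W) → W = ⊥ ∨ W = ⊤
  · -- then all of `E` lies in a field
    obtain ⟨F, _, _, τ, -, hτ1, hmul⟩ :=
      Classification.PSLTwoGeneral.exists_field_of_irreducible
        (fun z : Subgroup.center E => ρ z)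
        (fun i j => AddMonoidHom.ext fun x => hcomm i j x) v hv hirr
    have hscal : ∀ e : E, ∃ c : F, ∀ x, τ (c * x) = ρ e (τ x) := by
      intro e
      refine ⟨τ.symm (ρ e v), fun x => ?_⟩
      let W : AddSubgroup K :=
        { carrier := {y | τ (τ.symm (ρ e v) * τ.symm y) = ρ e y}
          zero_mem' := by simp
          add_mem' := fun {y y'} (hy : _ = _) (hy' : _ = _) => by
            show τ (τ.symm (ρ e v) * τ.symm (y + y')) = ρ e (y + y')
            rw [map_add, mul_add, map_add, hy, hy', map_add]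
          neg_mem' := fun {y} (hy : _ = _) => by
            show τ (τ.symm (ρ e v) * τ.symm (-y)) = ρ e (-y)
            rw [map_neg, mul_neg, map_neg, hy, map_neg] }
      have hmem : ∀ y, y ∈ W ↔ τ (τ.symm (ρ e v) * τ.symm y) = ρ e y := fun y => Iff.rfl
      rcases hirr W (fun z y hy => by
        rw [hmem] at hy ⊢
        obtain ⟨c, hc⟩ := hmul z
        have h1 : τ.symm (ρ z y) = c * τ.symm y := by
          rw [AddEquiv.symm_apply_eq, hc, τ.apply_symm_apply]
        rw [h1, mul_left_comm, hc, hy, hcomm]) with h | h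
      · exfalso
        have hvW : v ∈ W := by
          rw [hmem, ← hτ1, τ.symm_apply_apply, mul_one, τ.apply_symm_apply, hτ1]
        rw [h, AddSubgroup.mem_bot] at hvW
        exact hv hvW
      · have h1 := (hmem (τ x)).1 (h ▸ AddSubgroup.mem_top _)
        rwa [τ.symm_apply_apply] at h1
    obtain ⟨c, hc⟩ := hscal a
    obtain ⟨d, hd⟩ := hscal b
    refine hab ?_
    by_contra hne
    have hne' : (b * a)⁻¹ * (a * b) ≠ 1 := fun h => hne (inv_mul_eq_one.1 h).symm
    refine hv (hfree _ hne' v ?_)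
    have h1 : ρ (a * b) v = ρ (b * a) v := by
      rw [map_mul, map_mul]
      show ρ a (ρ b v) = ρ b (ρ a v)
      rw [← hτ1, ← hd, ← hc, ← hc, ← hd, mul_left_comm]
    rw [map_mul]
    show ρ (b * a)⁻¹ (ρ (a * b) v) = v
    rw [h1]
    show (ρ (b * a)⁻¹ * ρ (b * a)) v = v
    rw [← map_mul, inv_mul_cancel, map_one]
    rfl
  -- a minimal invariant subgroup
  push Not at hirr
  obtain ⟨W, hWinv, hWbot, hWtop⟩ := hirr
  have hex : ∃ n, ∃ A : AddSubgroup K, (∀ z : Subgroup.center E, ∀ x ∈ A, ρ z x ∈ A) ∧ A ≠ ⊥ ∧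
      Nat.card A = n := ⟨_, W, hWinv, hWbot, rfl⟩
  obtain ⟨A, hAinv, hAbot, hAcard⟩ := Nat.find_spec hex
  have hmin : ∀ B : AddSubgroup K, (∀ z : Subgroup.center E, ∀ x ∈ B, ρ z x ∈ B) → B ≠ ⊥ →
      Nat.card A ≤ Nat.card B := fun B hB hB' => by
    rw [hAcard]; exact Nat.find_min' hex ⟨B, hB, hB', rfl⟩
  obtain ⟨x, hxA, hx⟩ : ∃ x ∈ A, x ≠ 0 := by
    by_contra hc
    push Not at hc
    exact hAbot ((AddSubgroup.eq_bot_iff_forall A).2 hc)
  obtain ⟨y, hy⟩ : ∃ y, y ∉ A := by
    by_contra hc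
    push Not at hc
    have h1 := hmin W hWinv hWbot
    rw [(AddSubgroup.eq_top_iff' A).2 hc, AddSubgroup.card_top] at h1
    exact hWtop (AddSubgroup.eq_top_of_le_card W h1)
  obtain ⟨e, he⟩ := htrans x y hx (fun h => hy (h ▸ A.zero_mem))
  have hinj : Function.Injective (ρ e) := by
    intro p q hpq
    have h1 : (ρ e⁻¹ * ρ e) p = (ρ e⁻¹ * ρ e) q := congrArg (ρ e⁻¹) hpq
    rw [← map_mul, inv_mul_cancel, map_one] at h1
    exact h1
  -- `A` meets its translate trivially
  have hAB : ∀ p ∈ A, ρ e p ∈ A → p = 0 := by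
    let B : AddSubgroup K := A ⊓ A.comap (ρ e)
    have hB : ∀ z : Subgroup.center E, ∀ p ∈ B, ρ z p ∈ B := fun z p hp => by
      refine ⟨hAinv z p hp.1, ?_⟩
      show ρ e (ρ z p) ∈ A
      rw [← hcomm]
      exact hAinv z _ hp.2
    by_contra hc
    push Not at hc
    obtain ⟨p, hp, hp', hp0⟩ := hc
    have hBbot : B ≠ ⊥ := fun h => hp0 (by
      have : p ∈ B := ⟨hp, hp'⟩
      rwa [h, AddSubgroup.mem_bot] at this)
    have hBA : B = A := AddSubgroup.eq_of_le_of_card_ge inf_le_left (hmin B hB hBbot)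
    exact hy (he ▸ ((hBA ▸ hxA : x ∈ B).2))
  let f : A × A → K := fun p => (p.1 : K) + ρ e p.2
  have hf : Function.Injective f := by
    rintro ⟨p, q⟩ ⟨p', q'⟩ h
    have h1 : (p : K) + ρ e q = p' + ρ e q' := h
    have h2 : ρ e ((q : K) - q') = (p' : K) - p := by
      rw [map_sub, sub_eq_sub_iff_add_eq_add, add_comm, h1, add_comm]
    have h3 := hAB _ (A.sub_mem q.2 q'.2) (h2 ▸ A.sub_mem p'.2 p.2)
    rw [h3, map_zero, eq_comm, sub_eq_zero] at h2
    exact Prod.ext (Subtype.ext h2.symm) (Subtype.ext (sub_eq_zero.1 h3))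
  have hq2 : Nat.card A * Nat.card A ≤ Nat.card K := by
    rw [← Nat.card_prod]
    exact Nat.card_le_card_of_injective f hf
  -- the centre is semiregular on `A`
  have hzA : Nat.card (Subgroup.center E) + 1 ≤ Nat.card A := by
    haveI := Fintype.ofFinite A
    haveI := Fintype.ofFinite (Subgroup.center E)
    have h1 : Nat.card (Subgroup.center E) ≤ Nat.card {p : A // p ≠ 0} := by
      refine Nat.card_le_card_of_injective (fun z => ⟨⟨ρ z x, hAinv z x hxA⟩, fun h => hx ?_⟩) ?_
      · by_cases hz : (z : E) = 1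
        · have h' : ρ z x = 0 := congrArg Subtype.val h
          rw [hz, map_one] at h'
          exact h'
        · have h' : ρ z x = 0 := congrArg Subtype.val h
          have h2 : ρ (z : E)⁻¹ (ρ z x) = 0 := by rw [h', map_zero]
          have h3 : (ρ (z : E)⁻¹ * ρ z) x = 0 := h2
          rw [← map_mul, inv_mul_cancel, map_one] at h3
          exact h3
      · intro z z' h
        have h' : ρ z x = ρ z' x := congrArg (fun p => ((p : {p : A // p ≠ 0}).1 : K)) h
        by_contra hne
        refine hx (hfree ((z' : E)⁻¹ * z) (fun h1 => hne (Subtype.ext (inv_mul_eq_one.1 h1).symm)) x ?_)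
        rw [map_mul]
        show ρ (z' : E)⁻¹ (ρ z x) = x
        rw [h']
        show (ρ (z' : E)⁻¹ * ρ z') x = x
        rw [← map_mul, inv_mul_cancel, map_one]
        rfl
    rw [Nat.card_eq_fintype_card (α := {p : A // p ≠ 0}), Fintype.card_subtype_compl,
      Fintype.card_subtype_eq, ← Nat.card_eq_fintype_card] at h1
    have := Nat.card_pos (α := A)
    omega
  have hdvd : Nat.card A ∣ Nat.card K := AddSubgroup.card_addSubgroup_dvd_card A
  set z := Nat.card (Subgroup.center E)
  set q := Nat.card A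
  have hz : (z + 1) * (z + 1) ≤ 12 * z + 1 := by
    have := Nat.mul_le_mul hzA hzA
    omega
  have hz10 : z ≤ 10 := by
    by_contra h
    have := Nat.mul_le_mul (show 12 ≤ z + 1 by omega) (le_refl (z + 1))
    omega
  obtain ⟨c, hc⟩ := h6
  have hz6 : z = 6 := by
    have := Nat.card_pos (α := Subgroup.center E)
    omega
  have hE : Nat.card E = 72 := by
    obtain ⟨c', hc'⟩ := h72
    have := Nat.card_pos (α := E)
    omega
  rw [hK, hE] at hdvd hq2
  have hq8 : q ≤ 8 := by
    by_contra h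
    have := Nat.mul_le_mul (show 9 ≤ q by omega) (show 9 ≤ q by omega)
    omega
  have hq7 : 7 ≤ q := by omega
  interval_cases q <;> omega

end CfsgLib.Zassenhaus.Even
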