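import Cfsg.Agent.Zassenhaus.Even.Parity
import Cfsg.Agent.Zassenhaus.Even.Counting
import Cfsg.Agent.Classification.PSLTwoGeneral.Zassenhaus

/-!
# Simple Zassenhaus groups with two-point stabilisers of even order
-/

set_option autoImplicit false
set_option linter.style.haveILetI false

namespace CfsgLib.Zassenhaus.Even

open MulAction

variable {G Ω : Type*} [Group G] [MulAction G Ω] [Finite Ω]

/-- Either the two-point stabiliser is transitive on the other points or it has two orbits. -/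
theorem Frame.orbit_dichotomy (F : Frame G Ω) :
    (Nat.card F.E + 2 = Nat.card Ω ∧
      ∀ c d : Ω, c ≠ F.a → c ≠ F.b → d ≠ F.a → d ≠ F.b → ∃ e : F.E, (e : G) • c = d) ∨
    2 * Nat.card F.E + 2 ≤ Nat.card Ω := by
  classical
  haveI : Finite G := Zassenhaus.finite_group F.hZ
  haveI := Fintype.ofFinite Ω
  have hcard : Nat.card {d : Ω // d ≠ F.a ∧ d ≠ F.b} + 2 = Nat.card Ω := by
    have h1 : (Finset.univ.filter fun d : Ω => d ≠ F.a ∧ d ≠ F.b) = ({F.a, F.b} : Finset Ω)ᶜ := by
      ext d; simp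
    have h2 := Finset.card_le_univ ({F.a, F.b} : Finset Ω)
    rw [Finset.card_pair F.ne] at h2
    rw [Nat.card_eq_fintype_card, Fintype.card_subtype, h1, Finset.card_compl,
      Finset.card_pair F.ne, Nat.card_eq_fintype_card]
    omega
  let f : {d : Ω // d ≠ F.a ∧ d ≠ F.b} → F.E → {d : Ω // d ≠ F.a ∧ d ≠ F.b} := fun c e =>
    ⟨(e : G) • c.1,
      fun h => c.2.1 ((smul_left_cancel_iff (e : G)).1 (h.trans (F.mem_E.1 e.2).1.symm)),
      fun h => c.2.2 ((smul_left_cancel_iff (e : G)).1 (h.trans (F.mem_E.1 e.2).2.symm))⟩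
  have hf : ∀ c, Function.Injective (f c) := by
    intro c p q hpq
    have h1 : (p : G) • c.1 = (q : G) • c.1 := congrArg Subtype.val hpq
    have hm := F.E.mul_mem (F.E.inv_mem q.2) p.2
    exact Subtype.ext (inv_mul_eq_one.1 (Zassenhaus.eq_one F.hZ F.ne (Ne.symm c.2.2) (Ne.symm c.2.1)
      (F.mem_E.1 hm).1 (F.mem_E.1 hm).2 (by rw [mul_smul, h1, inv_smul_smul]))).symm
  by_cases h : ∀ c, Function.Surjective (f c)
  · refine Or.inl ⟨?_, fun c d hca hcb hda hdb => ?_⟩
    · rw [← hcard, Nat.card_eq_of_bijective (f ⟨F.c₀, F.c₀_a, F.c₀_b⟩) ⟨hf _, h _⟩]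
    · obtain ⟨e, he⟩ := h ⟨c, hca, hcb⟩ ⟨d, hda, hdb⟩
      exact ⟨e, congrArg Subtype.val he⟩
  · obtain ⟨c, hc⟩ := not_forall.1 h
    obtain ⟨c', hc'⟩ := not_forall.1 hc
    refine Or.inr ?_
    have hg : Function.Injective (Sum.elim (f c) (f c')) := by
      refine Function.Injective.sumElim (hf c) (hf c') fun p q hpq => hc' ⟨q⁻¹ * p, Subtype.ext ?_⟩
      have h1 : (p : G) • c.1 = (q : G) • c'.1 := congrArg Subtype.val hpq
      show ((q⁻¹ * p : F.E) : G) • c.1 = c'.1
      rw [Subgroup.coe_mul, mul_smul, h1, Subgroup.coe_inv, inv_smul_smul]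
    have := Nat.card_le_card_of_injective _ hg
    rw [Nat.card_sum] at this
    omega

open scoped IsMulCommutative in
/-- A simple Zassenhaus group with two-point stabilisers of even order is `PSL(2, F)`, `|F| ≥ 5`. -/
theorem exists_equiv_of_simple [IsSimpleGroup G] (hZ : Cfsg.IsZassenhausGroup G Ω) {a b : Ω}
    (hab : a ≠ b) (heven : Even (Nat.card ↥(stabilizer G a ⊓ stabilizer G b))) :
    ∃ (K : Type) (_ : Field K) (_ : Fintype K), Odd (Fintype.card K) ∧ 5 ≤ Fintype.card K ∧
      Nat.card Ω = Fintype.card K + 1 ∧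
      Nonempty (G ≃* Matrix.ProjectiveSpecialLinearGroup (Fin 2) K) := by
  classical
  haveI : Finite G := Zassenhaus.finite_group hZ
  haveI := Fintype.ofFinite Ω
  obtain ⟨F, rfl, rfl⟩ := exists_frame hZ hab heven
  rcases F.orbit_dichotomy with ⟨hd, htr⟩ | hd
  · exfalso
    have hS := F.swapAut hd
    by_cases hcomp : Cfsg.HasNormalPComplement 2 F.E
    · exact F.false_of_complement hd hcomp
    obtain ⟨h72, hle, h6, hna⟩ := hS.center_large hcomp
    refine false_of_large_center F.rep F.rep_free (fun x y hx hy => ?_) ?_ h72 hle h6 hna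
    · have hne : ∀ z : F.V, z ≠ 0 → ((Additive.toMul z : F.K) : G) • F.b ≠ F.a ∧
          ((Additive.toMul z : F.K) : G) • F.b ≠ F.b := by
        intro z hz
        have hz1 : ((Additive.toMul z : F.K) : G) ≠ 1 := fun h =>
          hz (Additive.toMul.injective (Subtype.ext h))
        exact ⟨fun h => F.ne ((smul_left_cancel_iff ((Additive.toMul z : F.K) : G)).1
            ((F.K_le (Additive.toMul z).2).trans h.symm)),
          fun h => F.ne.symm (F.K_fix _ (Additive.toMul z).2 hz1 F.b h)⟩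
      obtain ⟨e, he⟩ := htr _ _ (hne x hx).1 (hne x hx).2 (hne y hy).1 (hne y hy).2
      refine ⟨e, Additive.toMul.injective (Subtype.ext ?_)⟩
      rw [F.rep_apply]
      exact F.eq_of_smul (F.K_conj e (F.mem_E.1 e.2).1 _ (Additive.toMul x).2) (Additive.toMul y).2
        ((F.conj_smul e.2).trans he)
    · have := F.K_card
      show Nat.card F.K = _
      omega
  · obtain ⟨K, fK, fFin, hodd, h5, hcard, hiso⟩ :=
      CfsgLib.Classification.PSLTwoGeneral.exists_equiv_of_zassenhaus hZ F.ne heven (by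
        rw [← Nat.card_eq_fintype_card (α := Ω)]
        exact Nat.le_sub_of_add_le hd)
    exact ⟨K, fK, fFin, hodd, h5, by rw [Nat.card_eq_fintype_card, hcard], hiso⟩

end CfsgLib.Zassenhaus.Even
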