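import Cfsg.Agent.Zassenhaus.Even.Quaternion
import Cfsg.Agent.FrobComp.SylowStructure
import Cfsg.Agent.Transfer.Frobenius
import Mathlib.GroupTheory.Transfer
import Mathlib.NumberTheory.Basic

/-!
# Two-point stabilisers with an automorphism of order two fixing only two elements

If such a group has no normal 2-complement, its centre is large: `|E| ≤ 12 |Z(E)|`.
-/

set_option autoImplicit false
set_option linter.style.haveILetI false

namespace CfsgLib.Zassenhaus.Even

variable {E : Type*} [Group E] [Finite E]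

/-- An involutive automorphism of `E` fixing only `1` and the unique involution `j`, and inverting
the elements of order three. -/
structure SwapAut (σ : MulAut E) (j : E) : Prop where
  invol : ∀ e, σ (σ e) = e
  j_sq : j * j = 1
  j_ne : j ≠ 1
  unique : ∀ x : E, x * x = 1 → x = 1 ∨ x = j
  fixed : ∀ e, σ e = e → e = 1 ∨ e = j
  inv_three : ∀ t, orderOf t = 3 → σ t = t⁻¹
  no_square : ∀ a b : E, orderOf a = 3 → b ^ 3 = 1 → Commute a b → b ∈ Subgroup.zpowers a

namespace SwapAut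

variable {σ : MulAut E} {j : E} (h : SwapAut σ j)
include h

omit [Finite E] in
theorem unique_involution {S : Subgroup E} (x y : S) (hx : x * x = 1) (hx1 : x ≠ 1)
    (hy : y * y = 1) (hy1 : y ≠ 1) : x = y := by
  refine Subtype.ext ?_
  rw [(h.unique x (congrArg Subtype.val hx)).resolve_left fun e => hx1 (Subtype.ext e),
    (h.unique y (congrArg Subtype.val hy)).resolve_left fun e => hy1 (Subtype.ext e)]

omit [Finite E] in
theorem orderOf_j : orderOf j = 2 := by
  haveI : Fact (Nat.Prime 2) := ⟨Nat.prime_two⟩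
  exact orderOf_eq_prime (by rw [pow_two]; exact h.j_sq) h.j_ne

omit [Finite E] in
theorem j_central : j ∈ Subgroup.center E := by
  refine Subgroup.mem_center_iff.2 fun g => ?_
  rcases h.unique (g * j * g⁻¹) (by rw [conj_mul, h.j_sq, mul_one, mul_inv_cancel]) with e | e
  · exact absurd (conj_eq_one_iff.1 e) h.j_ne
  · exact mul_inv_eq_iff_eq_mul.1 e

/-- A normal invariant subgroup without involution is inverted. -/
theorem inverts_of_not_mem {N : Subgroup E} (hσ : ∀ x ∈ N, σ x ∈ N) (hj : j ∉ N) {z : E}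
    (hz : z ∈ N) : σ z = z⁻¹ := by
  let φ : N → N := fun x => ⟨(x : E)⁻¹ * σ x, N.mul_mem (N.inv_mem x.2) (hσ _ x.2)⟩
  have hφ : Function.Injective φ := by
    intro a b hab
    have h1 : (a : E)⁻¹ * σ a = (b : E)⁻¹ * σ b := congrArg Subtype.val hab
    have h2 : σ ((b : E) * (a : E)⁻¹) = (b : E) * (a : E)⁻¹ := by
      rw [map_mul, map_inv]
      calc σ (b : E) * (σ (a : E))⁻¹ = (b : E) * ((b : E)⁻¹ * σ b) * (σ (a : E))⁻¹ := by group
        _ = (b : E) * ((a : E)⁻¹ * σ a) * (σ (a : E))⁻¹ := by rw [h1]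
        _ = _ := by group
    rcases h.fixed _ h2 with e | e
    · exact Subtype.ext (mul_inv_eq_one.1 e).symm
    · exact absurd (e ▸ N.mul_mem b.2 (N.inv_mem a.2)) hj
  obtain ⟨x, hx⟩ := (Finite.injective_iff_surjective.1 hφ) ⟨z, hz⟩
  have hxz : (x : E)⁻¹ * σ x = z := congrArg Subtype.val hx
  rw [← hxz, map_mul, map_inv, h.invol]
  group

/-- An inverted normal subgroup is central or has an abelian centraliser of index two. -/
theorem central_or_abelian {N : Subgroup E} [N.Normal] (hinv : ∀ x ∈ N, σ x = x⁻¹) :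
    N ≤ Subgroup.center E ∨
      ((Subgroup.centralizer (N : Set E)).index = 2 ∧
        ∀ a ∈ Subgroup.centralizer (N : Set E), ∀ b ∈ Subgroup.centralizer (N : Set E),
          a * b = b * a) := by
  classical
  haveI := Fintype.ofFinite E
  set C := Subgroup.centralizer (N : Set E) with hC
  by_cases htop : C = ⊤
  · left
    intro x hx
    refine Subgroup.mem_center_iff.2 fun g => ?_
    exact (Subgroup.mem_centralizer_iff.1 (show g ∈ C by rw [htop]; exact Subgroup.mem_top g) x hx).symm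
  right
  let f : E → E := fun e => e⁻¹ * σ e
  have hmem : ∀ e, f e ∈ C := by
    intro e
    refine Subgroup.mem_centralizer_iff.2 fun x hx => ?_
    have hx' : e * x * e⁻¹ ∈ N := (inferInstance : N.Normal).conj_mem x hx e
    have h1 := hinv _ hx'
    rw [map_mul, map_mul, map_inv, hinv x hx] at h1
    have h2 : e⁻¹ * σ e * x⁻¹ = x⁻¹ * (e⁻¹ * σ e) := by
      calc e⁻¹ * σ e * x⁻¹ = e⁻¹ * (σ e * x⁻¹ * (σ e)⁻¹) * σ e := by group
        _ = e⁻¹ * (e * x * e⁻¹)⁻¹ * σ e := by rw [h1]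
        _ = x⁻¹ * (e⁻¹ * σ e) := by group
    simpa using (show Commute (f e) x⁻¹ from h2).inv_right.eq.symm
  have hinvC : ∀ e, σ (f e) = (f e)⁻¹ := fun e => by
    show σ (e⁻¹ * σ e) = (e⁻¹ * σ e)⁻¹
    rw [map_mul, map_inv, h.invol, mul_inv_rev, inv_inv]
  have hfib : ∀ y ∈ (Finset.univ : Finset E).image f,
      ((Finset.univ : Finset E).filter fun e => f e = y).card ≤ 2 := by
    intro y hy
    obtain ⟨e₀, -, rfl⟩ := Finset.mem_image.1 hy
    refine le_trans (Finset.card_le_card (t := {e₀, j * e₀}) fun e he => ?_) Finset.card_le_two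
    have he' : e⁻¹ * σ e = e₀⁻¹ * σ e₀ := (Finset.mem_filter.1 he).2
    have h2 : σ (e * e₀⁻¹) = e * e₀⁻¹ := by
      rw [map_mul, map_inv]
      calc σ e * (σ e₀)⁻¹ = e * (e⁻¹ * σ e) * (σ e₀)⁻¹ := by group
        _ = e * (e₀⁻¹ * σ e₀) * (σ e₀)⁻¹ := by rw [he']
        _ = _ := by group
    rw [Finset.mem_insert, Finset.mem_singleton]
    rcases h.fixed _ h2 with e1 | e1
    · exact Or.inl (mul_inv_eq_one.1 e1)
    · exact Or.inr (mul_inv_eq_iff_eq_mul.1 e1)
  have hcard : Fintype.card E ≤ 2 * ((Finset.univ : Finset E).image f).card :=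
    Finset.card_le_mul_card_image _ 2 hfib
  have hidx2 : 2 ≤ C.index := by
    have h1 : C.index ≠ 1 := fun e => htop (Subgroup.index_eq_one.1 e)
    have h2 : C.index ≠ 0 := Subgroup.index_ne_zero_of_finite
    omega
  have himgC : (Finset.univ : Finset E).image f ⊆ Finset.univ.filter (· ∈ C) := fun y hy => by
    obtain ⟨e, -, rfl⟩ := Finset.mem_image.1 hy
    exact Finset.mem_filter.2 ⟨Finset.mem_univ _, hmem e⟩
  have hCcard : (Finset.univ.filter (· ∈ C)).card = Nat.card C := by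
    rw [← Fintype.card_subtype, ← Nat.card_eq_fintype_card]
  have hmul := Subgroup.index_mul_card C
  rw [Nat.card_eq_fintype_card (α := E)] at hmul
  have hle := Finset.card_le_card himgC
  rw [hCcard] at hle
  have hCpos : 0 < Nat.card C := Nat.card_pos
  have hidx : C.index = 2 := by
    by_contra hne
    have h3 : 3 * Nat.card C ≤ C.index * Nat.card C := Nat.mul_le_mul_right _ (by omega)
    omega
  have heq : (Finset.univ : Finset E).image f = Finset.univ.filter (· ∈ C) := by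
    refine Finset.eq_of_subset_of_card_le himgC ?_
    rw [hCcard]
    rw [hidx] at hmul
    omega
  have hall : ∀ c ∈ C, σ c = c⁻¹ := by
    intro c hc
    obtain ⟨e, -, rfl⟩ := Finset.mem_image.1
      (show c ∈ (Finset.univ : Finset E).image f by
        rw [heq]; exact Finset.mem_filter.2 ⟨Finset.mem_univ _, hc⟩)
    exact hinvC e
  refine ⟨hidx, fun a ha b hb => ?_⟩
  have h1 := hall _ (C.mul_mem ha hb)
  rw [map_mul, hall a ha, hall b hb, mul_inv_rev] at h1
  have h2 := congrArg (·⁻¹) h1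
  simp only [mul_inv_rev, inv_inv] at h2
  exact h2.symm

/-- Without normal 2-complement some 3-element acts non-trivially on a quaternion group. -/
theorem exists_fusing (hcomp : ¬ Cfsg.HasNormalPComplement 2 E) :
    ∃ (W : Subgroup E) (u : E), IsPGroup 2 W ∧ (∃ k, orderOf u = 3 ^ k) ∧
      u ∈ Subgroup.normalizer (W : Set E) ∧ u ∉ Subgroup.centralizer (W : Set E) ∧
      Nat.card W = 8 ∧ ¬ IsCyclic W := by
  haveI : Fact (Nat.Prime 2) := ⟨Nat.prime_two⟩
  let P : Sylow 2 E := default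
  by_contra hno
  refine hcomp (Transfer.hasNormalPComplement_of_local P fun W hWP g hg hcop => ?_)
  by_contra hgc
  have hW : IsPGroup 2 W := P.2.to_le hWP
  set φ := Subgroup.normalizerMonoidHom W ⟨g, hg⟩ with hφ
  have hodd : Odd (orderOf g) := Nat.coprime_two_right.1 hcop
  have hφn : φ ^ orderOf g = 1 := by
    rw [hφ, ← map_pow, ← map_one (Subgroup.normalizerMonoidHom W)]
    congr 1
    exact Subtype.ext (by rw [SubgroupClass.coe_pow, pow_orderOf_eq_one]; rfl)
  have hcent : ∀ v : Subgroup.normalizer (W : Set E), Subgroup.normalizerMonoidHom W v = 1 →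
      (v : E) ∈ Subgroup.centralizer (W : Set E) := fun v hv => by
    have hv' : v ∈ (Subgroup.normalizerMonoidHom W).ker := hv
    rw [Subgroup.normalizerMonoidHom_ker] at hv'
    exact hv'
  have hne : φ ≠ 1 := fun e => hgc (hcent _ e)
  have hW8 : ¬ (IsCyclic W ∨ Nat.card W ≠ 8) := fun h8 =>
    hne (aut_eq_one hW h.unique_involution h8 φ hodd hφn)
  push Not at hW8
  have h3 := aut_pow_three hW h.unique_involution hW8.2 hW8.1 φ hodd hφn
  obtain ⟨k, m, hm, hkm⟩ := Nat.exists_eq_pow_mul_and_not_dvd (orderOf_pos g).ne' 3 (by norm_num)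
  refine hno ⟨W, g ^ m, hW, ⟨k, ?_⟩, pow_mem hg m, fun hu => ?_, hW8.2, hW8.1⟩
  · rw [orderOf_pow_of_dvd (fun h0 => by simp [h0] at hm) ⟨3 ^ k, by rw [hkm, mul_comm]⟩, hkm,
      Nat.mul_div_cancel _ (Nat.pos_of_ne_zero fun h0 => by simp [h0] at hm)]
  · have h4 : φ ^ m = 1 := by
      rw [hφ, ← map_pow]
      exact (MonoidHom.mem_ker).1 (show (⟨g, hg⟩ : Subgroup.normalizer (W : Set E)) ^ m ∈
          (Subgroup.normalizerMonoidHom W).ker by
        rw [Subgroup.normalizerMonoidHom_ker]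
        exact hu)
    have h5 := pow_gcd_eq_one.2 ⟨h3, h4⟩
    rw [(Nat.prime_three.coprime_iff_not_dvd.2 hm).gcd_eq_one, pow_one] at h5
    exact hne h5

/-- The centraliser of an inverted normal subgroup cannot be proper in the presence of fusion. -/
theorem central_of_inverted {N : Subgroup E} [N.Normal] (hinv : ∀ x ∈ N, σ x = x⁻¹)
    {W : Subgroup E} {u : E} (hW : IsPGroup 2 W) (hu : ∃ k, orderOf u = 3 ^ k)
    (hun : u ∈ Subgroup.normalizer (W : Set E)) (huc : u ∉ Subgroup.centralizer (W : Set E))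
    (hW8 : Nat.card W = 8) (hWc : ¬ IsCyclic W) : N ≤ Subgroup.center E := by
  rcases h.central_or_abelian hinv with hc | ⟨hidx, hab⟩
  · exact hc
  exfalso
  set C := Subgroup.centralizer (N : Set E) with hC
  obtain ⟨k, hk⟩ := hu
  have hodd : Odd (3 ^ k) := (by decide : Odd 3).pow
  have huC : u ∈ C := by
    obtain ⟨o, ho⟩ := hodd
    have h2 : (u ^ (o + 1)) ^ 2 ∈ C := Subgroup.sq_mem_of_index_two hidx _
    rw [← pow_mul, show (o + 1) * 2 = orderOf u + 1 by omega, pow_succ, pow_orderOf_eq_one,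
      one_mul] at h2
    exact h2
  obtain ⟨a, hai, ha4, hout⟩ := quaternion_data hW h.unique_involution hWc
  have haord : orderOf a = 4 := by
    have := Subgroup.index_mul_card (Subgroup.zpowers a)
    rw [hai, Nat.card_zpowers, hW8] at this
    omega
  obtain ⟨b, hb⟩ : ∃ b : W, b ∉ Subgroup.zpowers a := by
    by_contra hall
    push Not at hall
    rw [(Subgroup.eq_top_iff' _).2 hall, Subgroup.index_top] at hai
    omega
  -- an element of order four of `W` in `C`
  obtain ⟨y, hyC, hy4⟩ : ∃ y : W, (y : E) ∈ C ∧ orderOf y = 4 := by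
    by_cases haC : (a : E) ∈ C
    · exact ⟨a, haC, haord⟩
    by_cases hbC : (b : E) ∈ C
    · exact ⟨b, hbC, hout b hb⟩
    refine ⟨a * b, ?_, hout _ fun hab' => hb ?_⟩
    · rw [Subgroup.coe_mul]
      exact (Subgroup.mul_mem_iff_of_index_two hidx).2 (iff_of_false haC hbC)
    · rw [← inv_mul_cancel_left a b]
      exact mul_mem (inv_mem (Subgroup.mem_zpowers a)) hab'
  have hyi : (Subgroup.zpowers y).index = 2 := by
    have := Subgroup.index_mul_card (Subgroup.zpowers y)
    rw [Nat.card_zpowers, hy4, hW8] at this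
    omega
  set φ := Subgroup.normalizerMonoidHom W ⟨u, hun⟩ with hφ
  have hφn : φ ^ (3 ^ k) = 1 := by
    rw [hφ, ← map_pow, ← map_one (Subgroup.normalizerMonoidHom W)]
    congr 1
    exact Subtype.ext (by rw [SubgroupClass.coe_pow, ← hk, pow_orderOf_eq_one]; rfl)
  have hfix : φ y = y := Subtype.ext (by
    show u * (y : E) * u⁻¹ = y
    rw [hab u huC y hyC, mul_inv_cancel_right])
  have hone := eq_one_of_fix hW hyi hodd hφn hfix
  refine huc ?_
  have hv : (⟨u, hun⟩ : Subgroup.normalizer (W : Set E)) ∈ (Subgroup.normalizerMonoidHom W).ker :=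
    hone
  rw [Subgroup.normalizerMonoidHom_ker] at hv
  exact hv

theorem exists_central_three (hcomp : ¬ Cfsg.HasNormalPComplement 2 E) :
    ∃ t : E, orderOf t = 3 ∧ t ∈ Subgroup.center E ∧ ∀ s : E, orderOf s = 3 → s ∈ Subgroup.zpowers t := by
  haveI : Fact (Nat.Prime 3) := ⟨Nat.prime_three⟩
  obtain ⟨W, u, hW, ⟨k, hk⟩, hun, huc, hW8, hWc⟩ := h.exists_fusing hcomp
  have hk0 : k ≠ 0 := by
    rintro rfl
    rw [pow_zero, orderOf_eq_one_iff] at hk
    exact huc (hk ▸ Subgroup.one_mem _)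
  obtain ⟨t, ht⟩ := exists_prime_orderOf_dvd_card' (G := E) 3
    ((dvd_pow_self 3 hk0).trans (hk ▸ orderOf_dvd_natCard u))
  have ht3 : t ^ 3 = 1 := ht ▸ pow_orderOf_eq_one t
  have hall : ∀ s : E, orderOf s = 3 → s ∈ Subgroup.zpowers t := by
    intro s hs
    have hs3 : s ^ 3 = 1 := hs ▸ pow_orderOf_eq_one s
    have h1 := h.inv_three (s * t * s⁻¹)
      (by rw [show s * t * s⁻¹ = MulAut.conj s t from rfl, MulEquiv.orderOf_eq, ht])
    rw [map_mul, map_mul, map_inv, h.inv_three s hs, h.inv_three t ht] at h1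
    simp only [mul_inv_rev, inv_inv] at h1
    have h2 : Commute (s ^ 2) t := by
      have h3 : Commute (s ^ 2) t⁻¹ := by
        show s ^ 2 * t⁻¹ = t⁻¹ * s ^ 2
        calc s ^ 2 * t⁻¹ = s * (s * (t⁻¹ * s⁻¹)) * s := by rw [pow_two]; group
          _ = s * (s⁻¹ * t⁻¹ * s) * s := by rw [h1]
          _ = t⁻¹ * s ^ 2 := by rw [pow_two]; group
      simpa using h3.inv_right
    have h4 : Commute t s := by
      have h5 : s = (s ^ 2) ^ 2 := by
        rw [← pow_mul, show 2 * 2 = 3 + 1 by norm_num, pow_succ, hs3, one_mul]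
      rw [h5]
      exact (h2.pow_left 2).symm
    exact h.no_square t s ht hs3 h4
  haveI : (Subgroup.zpowers t).Normal := ⟨fun x hx g => by
    obtain ⟨i, rfl⟩ := Subgroup.mem_zpowers_iff.1 hx
    rw [← MulAut.conj_apply, map_zpow]
    exact zpow_mem (hall _ (by rw [MulEquiv.orderOf_eq, ht])) _⟩
  refine ⟨t, ht, h.central_of_inverted (N := Subgroup.zpowers t) (fun x hx => ?_) hW ⟨k, hk⟩ hun huc
    hW8 hWc (Subgroup.mem_zpowers t), hall⟩
  obtain ⟨i, rfl⟩ := Subgroup.mem_zpowers_iff.1 hx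
  rw [map_zpow, h.inv_three t ht, inv_zpow]

/-- The elements of order prime to three form a normal complement to a cyclic Sylow 3-subgroup. -/
theorem exists_three_complement {t : E} (ht : orderOf t = 3) (htc : t ∈ Subgroup.center E)
    (hall : ∀ s : E, orderOf s = 3 → s ∈ Subgroup.zpowers t) :
    ∃ (R : Sylow 3 E) (N : Subgroup E), IsCyclic (R : Subgroup E) ∧ N.IsComplement' (R : Subgroup E) ∧
      ∀ e, e ∈ N ↔ Nat.Coprime (orderOf e) 3 := by
  haveI : Fact (Nat.Prime 3) := ⟨Nat.prime_three⟩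
  obtain ⟨R, hR⟩ := (IsPGroup.of_card (p := 3) (n := 1)
    (show Nat.card (Subgroup.zpowers t) = 3 ^ 1 by rw [Nat.card_zpowers, ht, pow_one])).exists_le_sylow
  have htR : t ∈ (R : Subgroup E) := hR (Subgroup.mem_zpowers t)
  have ht3 : t ^ 3 = 1 := ht ▸ pow_orderOf_eq_one t
  have hcyc : IsCyclic (R : Subgroup E) := by
    refine FrobComp.isCyclic_of_uniqueOrderP R.2 ?_ (Or.inr (by norm_num))
    intro x y hx hy hx1
    have hxE : orderOf (x : E) = 3 := by rw [Subgroup.orderOf_coe]; exact orderOf_eq_prime hx hx1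
    have hxz : Subgroup.zpowers (x : E) = Subgroup.zpowers t :=
      Subgroup.eq_of_le_of_card_ge (Subgroup.zpowers_le.2 (hall _ hxE))
        (by rw [Nat.card_zpowers, Nat.card_zpowers, hxE, ht])
    have hy' : (y : E) ∈ Subgroup.zpowers (x : E) := by
      by_cases hy1 : y = 1
      · rw [hy1]; exact Subgroup.one_mem _
      · rw [hxz]
        exact hall _ (by rw [Subgroup.orderOf_coe]; exact orderOf_eq_prime hy hy1)
    obtain ⟨i, hi⟩ := Subgroup.mem_zpowers_iff.1 hy'
    exact Subgroup.mem_zpowers_iff.2 ⟨i, Subtype.ext (by simpa using hi)⟩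
  obtain ⟨r, hr⟩ := hcyc.exists_zpow_surjective
  obtain ⟨b, hb⟩ := R.2.exists_card_eq
  have hr' : orderOf (r : E) = 3 ^ b := by
    rw [Subgroup.orderOf_coe, orderOf_eq_card_of_forall_mem_zpowers hr, hb]
  have hcent : Subgroup.normalizer ((R : Subgroup E) : Set E) ≤
      Subgroup.centralizer ((R : Subgroup E) : Set E) := by
    intro g hg
    -- it suffices to commute with `r`
    have hgr : g * (r : E) * g⁻¹ ∈ (R : Subgroup E) := (Subgroup.mem_normalizer_iff.1 hg _).1 r.2
    obtain ⟨k, hk⟩ := hr ⟨_, hgr⟩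
    have hk' : g * (r : E) * g⁻¹ = (r : E) ^ k := (congrArg Subtype.val hk).symm
    have hiter : ∀ i : ℕ, g ^ i * (r : E) * (g ^ i)⁻¹ = (r : E) ^ (k ^ i) := by
      intro i
      induction i with
      | zero => simp
      | succ i ih =>
        calc g ^ (i + 1) * (r : E) * (g ^ (i + 1))⁻¹ = MulAut.conj g (g ^ i * (r : E) * (g ^ i)⁻¹) := by
              rw [MulAut.conj_apply, pow_succ']; group
          _ = (r : E) ^ (k ^ (i + 1)) := by
              rw [ih, map_zpow, MulAut.conj_apply, hk', ← zpow_mul, pow_succ']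
    obtain ⟨c, hc⟩ := Subgroup.mem_zpowers_iff.1
      (show t ∈ Subgroup.zpowers (r : E) by
        obtain ⟨i, hi⟩ := hr ⟨t, htR⟩
        exact Subgroup.mem_zpowers_iff.2 ⟨i, congrArg Subtype.val hi⟩)
    have hk1 : ((3 : ℕ) : ℤ) ∣ k - 1 := by
      have h1 : g * t * g⁻¹ = t := by
        rw [Subgroup.mem_center_iff.1 htc g, mul_inv_cancel_right]
      have h2 : t ^ k = t ^ (1 : ℤ) := by
        rw [zpow_one]
        conv_rhs => rw [← h1, ← hc, ← MulAut.conj_apply, map_zpow, MulAut.conj_apply, hk']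
        rw [← hc, ← zpow_mul, ← zpow_mul, mul_comm]
      rw [zpow_eq_zpow_iff_modEq, ht] at h2
      exact Int.modEq_iff_dvd.1 h2.symm
    have hg1 : Commute (g ^ 3 ^ b) (r : E) := by
      have h1 := hiter (3 ^ b)
      have h2 : (r : E) ^ (k ^ 3 ^ b) = (r : E) ^ (1 : ℤ) := by
        rw [zpow_eq_zpow_iff_modEq, hr']
        refine (Int.modEq_iff_dvd.2 ?_).symm
        have h3 := dvd_sub_pow_of_dvd_sub hk1 b
        rw [one_pow] at h3
        push_cast
        exact dvd_trans (pow_dvd_pow (3 : ℤ) b.le_succ) h3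
      rw [h2, zpow_one, mul_inv_eq_iff_eq_mul] at h1
      exact h1
    obtain ⟨i, m, hm, him⟩ := Nat.exists_eq_pow_mul_and_not_dvd (orderOf_pos g).ne' 3 (by norm_num)
    have hg2 : g ^ m ∈ (R : Subgroup E) := by
      have hp : IsPGroup 3 (Subgroup.zpowers (g ^ m)) := IsPGroup.of_card (n := i) (by
        rw [Nat.card_zpowers, orderOf_pow_of_dvd (fun h0 => by simp [h0] at hm)
          ⟨3 ^ i, by rw [him, mul_comm]⟩, him,
          Nat.mul_div_cancel _ (Nat.pos_of_ne_zero fun h0 => by simp [h0] at hm)])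
      have hle : Subgroup.zpowers (g ^ m) ≤ Subgroup.normalizer ((R : Subgroup E) : Set E) :=
        Subgroup.zpowers_le.2 (pow_mem hg m)
      have hsyl := hp.inf_normalizer_sylow R
      exact Subgroup.zpowers_le.1 (inf_eq_left.1 (hsyl.symm.trans (inf_eq_left.2 hle)))
    have hcop : Nat.Coprime (3 ^ b) m := (Nat.prime_three.coprime_iff_not_dvd.2 hm).pow_left _
    have hg3 : Commute g (r : E) := by
      have hz : Commute (g ^ m) (r : E) := by
        obtain ⟨l, hl⟩ := hr ⟨_, hg2⟩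
        have hl' : (r : E) ^ l = g ^ m := congrArg Subtype.val hl
        rw [← hl']
        exact (Commute.refl _).zpow_left l
      have e := Nat.gcd_eq_gcd_ab (3 ^ b) m
      rw [hcop.gcd_eq_one] at e
      have hg' : g = (g ^ 3 ^ b) ^ (Nat.gcdA (3 ^ b) m) * (g ^ m) ^ (Nat.gcdB (3 ^ b) m) := by
        rw [← zpow_natCast g (3 ^ b), ← zpow_natCast g m, ← zpow_mul, ← zpow_mul, ← zpow_add, ← e,
          Nat.cast_one, zpow_one]
      rw [hg']
      exact (hg1.zpow_left _).mul_left (hz.zpow_left _)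
    refine Subgroup.mem_centralizer_iff.2 fun x hx => ?_
    obtain ⟨l, hl⟩ := hr ⟨x, hx⟩
    rw [show x = (r : E) ^ l from (congrArg Subtype.val hl).symm]
    exact (hg3.zpow_right l).eq.symm
  set V := (MonoidHom.transferSylow R hcent).ker with hV
  have hcompl := MonoidHom.ker_transferSylow_isComplement' R hcent
  refine ⟨R, V, hcyc, hcompl, fun e => ⟨fun he => ?_, fun he => ?_⟩⟩
  · have h1 : ¬ 3 ∣ Nat.card V := MonoidHom.not_dvd_card_ker_transferSylow R hcent
    refine ((Nat.prime_three.coprime_iff_not_dvd).2 fun h3 => h1 (h3.trans ?_)).symm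
    exact Subgroup.orderOf_dvd_natCard _ he
  · have h1 : MonoidHom.transferSylow R hcent e = 1 := by
      have h2 : orderOf (MonoidHom.transferSylow R hcent e) ∣ orderOf e := orderOf_map_dvd _ e
      have h3 : orderOf (MonoidHom.transferSylow R hcent e) ∣ 3 ^ b := hb ▸ orderOf_dvd_natCard _
      have h4 := Nat.dvd_gcd h2 h3
      rw [(he.pow_right b).gcd_eq_one, Nat.dvd_one, orderOf_eq_one_iff] at h4
      exact h4
    exact h1

/-- Without normal 2-complement the centre is large. -/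
theorem center_large (hcomp : ¬ Cfsg.HasNormalPComplement 2 E) :
    72 ∣ Nat.card E ∧ Nat.card E ≤ 12 * Nat.card (Subgroup.center E) ∧
      6 ∣ Nat.card (Subgroup.center E) ∧ ∃ a b : E, a * b ≠ b * a := by
  classical
  haveI : Fact (Nat.Prime 2) := ⟨Nat.prime_two⟩
  haveI : Fact (Nat.Prime 3) := ⟨Nat.prime_three⟩
  obtain ⟨t, ht, htc, hall⟩ := h.exists_central_three hcomp
  obtain ⟨R, N₀, hRcyc, hN₀R, hN₀⟩ := h.exists_three_complement ht htc hall
  obtain ⟨W, u, hW, ⟨k, hk⟩, hun, huc, hW8, hWc⟩ := h.exists_fusing hcomp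
  haveI hN₀n : N₀.Normal := ⟨fun x hx g => by
    rw [hN₀] at hx ⊢
    rwa [← MulAut.conj_apply, MulEquiv.orderOf_eq]⟩
  -- `N₀` has a normal 2-complement
  have hj0 : j ∈ N₀ := (hN₀ j).2 (by rw [h.orderOf_j]; norm_num)
  let σ₀ : MulAut N₀ :=
    { toFun := fun x => ⟨σ x, by rw [hN₀, MulEquiv.orderOf_eq, ← hN₀]; exact x.2⟩
      invFun := fun x => ⟨σ x, by rw [hN₀, MulEquiv.orderOf_eq, ← hN₀]; exact x.2⟩
      left_inv := fun x => Subtype.ext (h.invol x)
      right_inv := fun x => Subtype.ext (h.invol x)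
      map_mul' := fun x y => Subtype.ext (map_mul σ (x : E) y) }
  have h₀ : SwapAut σ₀ (⟨j, hj0⟩ : N₀) :=
    { invol := fun x => Subtype.ext (h.invol x)
      j_sq := Subtype.ext h.j_sq
      j_ne := fun e => h.j_ne (congrArg Subtype.val e)
      unique := fun x hx => (h.unique x (congrArg Subtype.val hx)).imp (fun e => Subtype.ext e)
        fun e => Subtype.ext e
      fixed := fun x hx => (h.fixed x (congrArg Subtype.val hx)).imp (fun e => Subtype.ext e)
        fun e => Subtype.ext e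
      inv_three := fun x hx => by
        exfalso
        have := (hN₀ x).1 x.2
        rw [Subgroup.orderOf_coe, hx] at this
        norm_num at this
      no_square := fun x y hx _ _ => by
        exfalso
        have := (hN₀ x).1 x.2
        rw [Subgroup.orderOf_coe, hx] at this
        norm_num at this }
  have hcomp₀ : Cfsg.HasNormalPComplement 2 N₀ := by
    by_contra hc
    obtain ⟨W', v, -, ⟨i, hi⟩, -, hvc, -, -⟩ := h₀.exists_fusing hc
    refine hvc ?_
    have h1 := (hN₀ v).1 v.2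
    rw [Subgroup.orderOf_coe, hi] at h1
    have hv1 : v = 1 := by
      rcases Nat.eq_zero_or_pos i with rfl | hi0
      · exact orderOf_eq_one_iff.1 (by simpa using hi)
      · rw [Nat.coprime_pow_left_iff hi0] at h1
        norm_num at h1
    rw [hv1]; exact Subgroup.one_mem _
  obtain ⟨P₀⟩ : Nonempty (Sylow 2 N₀) := inferInstance
  set O := (Cfsg.pResidual 2 N₀).map N₀.subtype with hO
  have hOmem : ∀ e, e ∈ O ↔ e ∈ N₀ ∧ Nat.Coprime (orderOf e) 2 := by
    intro e
    constructor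
    · intro he
      obtain ⟨x, hx, rfl⟩ := Subgroup.mem_map.1 he
      refine ⟨x.2, ?_⟩
      rw [Subgroup.subtype_apply, Subgroup.orderOf_coe]
      exact (Transfer.mem_pResidual_iff hcomp₀).1 hx
    · rintro ⟨he0, he2⟩
      refine Subgroup.mem_map.2 ⟨⟨e, he0⟩, (Transfer.mem_pResidual_iff hcomp₀).2 ?_, rfl⟩
      rw [← Subgroup.orderOf_coe]
      exact he2
  haveI hOn : O.Normal := ⟨fun x hx g => by
    rw [hOmem] at hx ⊢
    refine ⟨hN₀n.conj_mem x hx.1 g, ?_⟩
    rw [← MulAut.conj_apply, MulEquiv.orderOf_eq]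
    exact hx.2⟩
  have hOσ : ∀ x ∈ O, σ x ∈ O := fun x hx => by
    rw [hOmem] at hx ⊢
    rw [hN₀, MulEquiv.orderOf_eq, ← hN₀]
    exact hx
  have hjO : j ∉ O := fun hj => by
    have := ((hOmem j).1 hj).2
    rw [h.orderOf_j] at this
    norm_num at this
  have hOc : O ≤ Subgroup.center E := h.central_of_inverted
    (fun x hx => h.inverts_of_not_mem hOσ hjO hx) hW ⟨k, hk⟩ hun huc hW8 hWc
  -- the Sylow 2-subgroup
  obtain ⟨Q, hWQ⟩ := hW.exists_le_sylow
  have hQN₀ : (Q : Subgroup E) ≤ N₀ := fun x hx => by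
    obtain ⟨m, hm⟩ := IsPGroup.iff_orderOf.1 Q.2 ⟨x, hx⟩
    rw [hN₀, ← Subgroup.orderOf_mk x hx, hm]
    exact Nat.Coprime.pow_left _ (by norm_num)
  have hQ0card : Nat.card N₀ = Nat.card O * Nat.card (Q : Subgroup E) := by
    let Q₀ : Sylow 2 N₀ := Q.subtype hQN₀
    obtain ⟨M, hMn, hMc⟩ := Transfer.exists_isComplement' hcomp₀ Q₀
    have hMeq : M = Cfsg.pResidual 2 N₀ :=
      Transfer.eq_pResidual_of_isComplement' hMc
    rw [← hMc.card_mul_card, hMeq, hO, Subgroup.card_map_of_injective N₀.subtype_injective,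
      Sylow.coe_subtype, Nat.card_congr (Subgroup.subgroupOfEquivOfLe hQN₀).toEquiv]
  have htwo : ∀ e, e ∈ (Q : Subgroup E) ↔ ∃ m, orderOf e = 2 ^ m := by
    refine fun e => ⟨fun he => ?_, ?_⟩
    · obtain ⟨m, hm⟩ := IsPGroup.iff_orderOf.1 Q.2 ⟨e, he⟩
      exact ⟨m, by rw [← Subgroup.orderOf_mk e he, hm]⟩
    rintro ⟨m, hm⟩
    have he0 : e ∈ N₀ := (hN₀ e).2 (by rw [hm]; exact Nat.Coprime.pow_left _ (by norm_num))
    -- `N₀ = O Q` with `O` central
    have hdis : ∀ x, x ∈ O → x ∈ (Q : Subgroup E) → x = 1 := fun x hx hxQ => by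
      obtain ⟨i, hi⟩ := IsPGroup.iff_orderOf.1 Q.2 ⟨x, hxQ⟩
      have := ((hOmem x).1 hx).2
      rw [← Subgroup.orderOf_mk x hxQ, hi] at this
      rcases Nat.eq_zero_or_pos i with rfl | hi0
      · have h1 : orderOf x = 1 := by rw [← Subgroup.orderOf_mk x hxQ, hi, pow_zero]
        exact orderOf_eq_one_iff.1 h1
      · rw [Nat.coprime_pow_left_iff hi0] at this
        norm_num at this
    let p : O × (Q : Subgroup E) → N₀ := fun x => ⟨(x.1 : E) * x.2,
      N₀.mul_mem ((hOmem _).1 x.1.2).1 (hQN₀ x.2.2)⟩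
    have hp : Function.Bijective p := by
      refine Function.Injective.bijective_of_nat_card_le (fun x y hxy => ?_) ?_
      · have h1 : (x.1 : E) * x.2 = y.1 * y.2 := congrArg Subtype.val hxy
        have h2 : (y.1 : E)⁻¹ * x.1 = y.2 * (x.2 : E)⁻¹ := by
          calc (y.1 : E)⁻¹ * x.1 = (y.1 : E)⁻¹ * ((x.1 : E) * x.2) * (x.2 : E)⁻¹ := by group
            _ = _ := by rw [h1]; group
        have h3 := hdis _ (O.mul_mem (O.inv_mem y.1.2) x.1.2)
          (h2 ▸ (Q : Subgroup E).mul_mem y.2.2 ((Q : Subgroup E).inv_mem x.2.2))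
        rw [h3, eq_comm, mul_inv_eq_one] at h2
        exact Prod.ext (Subtype.ext (inv_mul_eq_one.1 h3).symm) (Subtype.ext h2.symm)
      · rw [Nat.card_prod, hQ0card]
    obtain ⟨⟨o, q⟩, hoq⟩ := hp.2 ⟨e, he0⟩
    have hoq' : (o : E) * q = e := congrArg Subtype.val hoq
    obtain ⟨i, hi⟩ := IsPGroup.iff_orderOf.1 Q.2 q
    have hc : Commute (o : E) (q : E) := (Subgroup.mem_center_iff.1 (hOc o.2) q).symm
    have h1 : (o : E) ^ 2 ^ (m + i) = 1 := by
      have h2 := hc.mul_pow (2 ^ (m + i))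
      have he1 : ((o : E) * q) ^ 2 ^ (m + i) = 1 := by
        rw [hoq', pow_add, pow_mul, ← hm, pow_orderOf_eq_one, one_pow]
      have hq1 : (q : E) ^ 2 ^ (m + i) = 1 := by
        rw [pow_add, mul_comm, pow_mul, show (q : E) ^ 2 ^ i = 1 by
          rw [← hi, ← Subgroup.orderOf_coe, pow_orderOf_eq_one], one_pow]
      rw [he1, hq1, mul_one] at h2
      exact h2.symm
    have ho : (o : E) = 1 := by
      have h3 := Nat.dvd_gcd (orderOf_dvd_of_pow_eq_one h1) (dvd_refl (orderOf (o : E)))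
      rw [(((hOmem _).1 o.2).2.pow_right (m + i)).symm.gcd_eq_one, Nat.dvd_one] at h3
      exact orderOf_eq_one_iff.1 h3
    rw [← hoq', ho, one_mul]
    exact q.2
  haveI hQn : (Q : Subgroup E).Normal := ⟨fun x hx g => by
    rw [htwo] at hx ⊢
    rwa [← MulAut.conj_apply, MulEquiv.orderOf_eq]⟩
  -- `Q` is quaternion of order eight
  have hQN : ∀ v : E, v ∈ Subgroup.normalizer ((Q : Subgroup E) : Set E) := fun v => by
    rw [Subgroup.normalizer_eq_top]
    exact Subgroup.mem_top v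
  have hker : ∀ v : E, Subgroup.normalizerMonoidHom (Q : Subgroup E) ⟨v, hQN v⟩ = 1 →
      v ∈ Subgroup.centralizer ((Q : Subgroup E) : Set E) := fun v hv => by
    have hv' : (⟨v, hQN v⟩ : Subgroup.normalizer ((Q : Subgroup E) : Set E)) ∈
        (Subgroup.normalizerMonoidHom (Q : Subgroup E)).ker := hv
    rw [Subgroup.normalizerMonoidHom_ker] at hv'
    exact hv'
  have hord : ∀ (v : E) (i : ℕ), orderOf v = 3 ^ i →
      (Subgroup.normalizerMonoidHom (Q : Subgroup E) ⟨v, hQN v⟩) ^ (3 ^ i) = 1 := fun v i hv => by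
    rw [← map_pow, ← map_one (Subgroup.normalizerMonoidHom (Q : Subgroup E))]
    congr 1
    exact Subtype.ext (by rw [SubgroupClass.coe_pow, ← hv, pow_orderOf_eq_one]; rfl)
  have huQ : Subgroup.normalizerMonoidHom (Q : Subgroup E) ⟨u, hQN u⟩ ≠ 1 := fun e =>
    huc (Subgroup.mem_centralizer_iff.2 fun x hx =>
      Subgroup.mem_centralizer_iff.1 (hker u e) x (hWQ hx))
  have hodd3 : ∀ i, Odd (3 ^ i) := fun i => (by decide : Odd 3).pow
  have hQ8' : ¬ (IsCyclic (Q : Subgroup E) ∨ Nat.card (Q : Subgroup E) ≠ 8) := fun h8 =>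
    huQ (aut_eq_one Q.2 h.unique_involution h8 _ (hodd3 k) (hord u k hk))
  push Not at hQ8'
  obtain ⟨r, hr⟩ := hRcyc.exists_zpow_surjective
  obtain ⟨b, hb⟩ := R.2.exists_card_eq
  have hr' : orderOf (r : E) = 3 ^ b := by
    rw [Subgroup.orderOf_coe, orderOf_eq_card_of_forall_mem_zpowers hr, hb]
  -- `E` is generated by `N₀` and `r`
  have hcover : ∀ e : E, ∃ o ∈ O, ∃ q ∈ (Q : Subgroup E), ∃ i : ℤ, e = o * q * (r : E) ^ i := by
    intro e
    obtain ⟨⟨n, v⟩, hnv⟩ := hN₀R.2 e
    obtain ⟨i, hi⟩ := hr v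
    let p : O × (Q : Subgroup E) → N₀ := fun x => ⟨(x.1 : E) * x.2,
      N₀.mul_mem ((hOmem _).1 x.1.2).1 (hQN₀ x.2.2)⟩
    have hp : Function.Injective p := fun x y hxy => by
      have h1 : (x.1 : E) * x.2 = y.1 * y.2 := congrArg Subtype.val hxy
      have h2 : (y.1 : E)⁻¹ * x.1 = y.2 * (x.2 : E)⁻¹ := by
        calc (y.1 : E)⁻¹ * x.1 = (y.1 : E)⁻¹ * ((x.1 : E) * x.2) * (x.2 : E)⁻¹ := by group
          _ = _ := by rw [h1]; group
      have h3 : (y.1 : E)⁻¹ * x.1 = 1 := by
        have hmO : (y.1 : E)⁻¹ * x.1 ∈ O := O.mul_mem (O.inv_mem y.1.2) x.1.2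
        obtain ⟨m, hm⟩ := (htwo _).1
          (h2 ▸ (Q : Subgroup E).mul_mem y.2.2 ((Q : Subgroup E).inv_mem x.2.2) :
            (y.1 : E)⁻¹ * x.1 ∈ (Q : Subgroup E))
        have h4 := ((hOmem _).1 hmO).2
        rw [hm] at h4
        rcases Nat.eq_zero_or_pos m with rfl | hm0
        · exact orderOf_eq_one_iff.1 (by simpa using hm)
        · rw [Nat.coprime_pow_left_iff hm0] at h4
          norm_num at h4
      rw [h3, eq_comm, mul_inv_eq_one] at h2
      exact Prod.ext (Subtype.ext (inv_mul_eq_one.1 h3).symm) (Subtype.ext h2.symm)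
    obtain ⟨⟨o, q⟩, hoq⟩ := (hp.bijective_of_nat_card_le (by rw [Nat.card_prod, hQ0card])).2 n
    refine ⟨o, o.2, q, q.2, i, ?_⟩
    have h1 : (o : E) * q = n := congrArg Subtype.val hoq
    have h2 : (r : E) ^ i = v := congrArg Subtype.val hi
    rw [h1, h2]
    exact hnv.symm
  -- the central subgroups
  have hr3 : (r : E) ^ 3 ∈ Subgroup.center E := by
    have h3 := aut_pow_three Q.2 h.unique_involution hQ8'.2 hQ8'.1 _ (hodd3 b) (hord r b hr')
    rw [← map_pow] at h3
    have hcQ : ∀ q ∈ (Q : Subgroup E), Commute ((r : E) ^ 3) q := fun q hq => by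
      have hv : (⟨(r : E), hQN r⟩ : Subgroup.normalizer ((Q : Subgroup E) : Set E)) ^ 3 ∈
          (Subgroup.normalizerMonoidHom (Q : Subgroup E)).ker := h3
      rw [Subgroup.normalizerMonoidHom_ker] at hv
      have hv' : (r : E) ^ 3 ∈ Subgroup.centralizer ((Q : Subgroup E) : Set E) := hv
      exact (Subgroup.mem_centralizer_iff.1 hv' q hq).symm
    refine Subgroup.mem_center_iff.2 fun e => ?_
    obtain ⟨o, ho, q, hq, i, rfl⟩ := hcover e
    exact ((((show Commute o ((r : E) ^ 3) from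
      (Subgroup.mem_center_iff.1 (hOc ho) _).symm).mul_left (hcQ q hq).symm).mul_left
        (((Commute.refl (r : E)).pow_right 3).zpow_left i))).eq
  have hb2 : 2 ≤ b := by
    by_contra hlt
    -- otherwise a conjugate of `u` is central
    obtain ⟨o, ho, q, hq, i, hu'⟩ := hcover u
    have hRt : (r : E) ∈ Subgroup.center E := by
      rcases Nat.eq_zero_or_pos b with rfl | hb0
      · rw [pow_zero, orderOf_eq_one_iff] at hr'
        rw [hr']
        exact Subgroup.one_mem _
      · have hb1 : b = 1 := by omega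
        subst hb1
        obtain ⟨l, hl⟩ := Subgroup.mem_zpowers_iff.1 (hall (r : E) (by rw [hr', pow_one]))
        rw [← hl]
        exact Subgroup.zpow_mem _ htc l
    have huoq : u = q * (o * (r : E) ^ i) := by
      rw [hu', ← mul_assoc, (Subgroup.mem_center_iff.1 (hOc ho) q)]
    have hz : o * (r : E) ^ i ∈ Subgroup.center E :=
      Subgroup.mul_mem _ (hOc ho) (Subgroup.zpow_mem _ hRt i)
    obtain ⟨m, hm⟩ := (htwo q).1 hq
    refine huc (Subgroup.mem_centralizer_iff.2 fun x hx => ?_)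
    -- `u ^ 2 ^ m` is central and generates `⟨u⟩`
    have hpow : u ^ 2 ^ m ∈ Subgroup.center E := by
      rw [huoq, (show Commute q (o * (r : E) ^ i) from Subgroup.mem_center_iff.1 hz q).mul_pow,
        ← hm, pow_orderOf_eq_one, one_mul]
      exact Subgroup.pow_mem _ hz _
    obtain ⟨l, hl⟩ := exists_pow_eq_self_of_coprime (x := u) (n := 2 ^ m)
      (by rw [hk]; exact (Nat.Coprime.pow _ _ (by norm_num)))
    have hucen : u ∈ Subgroup.center E := hl ▸ Subgroup.pow_mem _ hpow l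
    exact Subgroup.mem_center_iff.1 hucen x
  obtain ⟨b', rfl⟩ : ∃ b', b = b' + 1 := ⟨b - 1, by omega⟩
  have hcardE : Nat.card E = Nat.card O * 8 * 3 ^ (b' + 1) := by
    rw [← hN₀R.card_mul_card, hQ0card, hQ8'.2, hb]
  have hz2 : 2 ∣ Nat.card (Subgroup.center E) :=
    h.orderOf_j ▸ Subgroup.orderOf_dvd_natCard _ h.j_central
  have hz3 : 3 ^ b' ∣ Nat.card (Subgroup.center E) := by
    have h1 : orderOf ((r : E) ^ 3) = 3 ^ b' := by
      rw [orderOf_pow_of_dvd (by norm_num) (by rw [hr']; exact dvd_pow_self 3 (by omega)), hr',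
        pow_succ, Nat.mul_div_cancel _ (by norm_num)]
    exact h1 ▸ Subgroup.orderOf_dvd_natCard _ hr3
  have hzO : Nat.card O ∣ Nat.card (Subgroup.center E) := Subgroup.card_dvd_of_le hOc
  have hOcop : ∀ p : ℕ, p.Prime → p ∣ Nat.card O → p ≠ 2 ∧ p ≠ 3 := by
    intro p hp hpd
    haveI := Fact.mk hp
    obtain ⟨x, hx⟩ := exists_prime_orderOf_dvd_card' p hpd
    have h1 := (hOmem x).1 x.2
    rw [hN₀, Subgroup.orderOf_coe, hx] at h1
    constructor <;> rintro rfl
    · exact absurd h1.2 (by norm_num)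
    · exact absurd h1.1 (by norm_num)
  have hc2 : Nat.Coprime (Nat.card O) 2 := Nat.coprime_of_dvd fun p hp hpd h2 =>
    (hOcop p hp hpd).1 ((Nat.prime_dvd_prime_iff_eq hp Nat.prime_two).1 h2)
  have hc3 : Nat.Coprime (Nat.card O) 3 := Nat.coprime_of_dvd fun p hp hpd h3 =>
    (hOcop p hp hpd).2 ((Nat.prime_dvd_prime_iff_eq hp Nat.prime_three).1 h3)
  have hdvd : Nat.card O * (2 * 3 ^ b') ∣ Nat.card (Subgroup.center E) :=
    Nat.Coprime.mul_dvd_of_dvd_of_dvd (Nat.Coprime.mul_right hc2 (hc3.pow_right _)) hzO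
      (Nat.Coprime.mul_dvd_of_dvd_of_dvd (Nat.Coprime.pow_right _ (by norm_num)) hz2 hz3)
  refine ⟨?_, ?_, ?_, ?_⟩
  · obtain ⟨b'', rfl⟩ : ∃ b'', b' = b'' + 1 := ⟨b' - 1, by omega⟩
    exact ⟨Nat.card O * 3 ^ b'', by rw [hcardE]; ring⟩
  · have := Nat.le_of_dvd Nat.card_pos hdvd
    calc Nat.card E = 12 * (Nat.card O * (2 * 3 ^ b')) := by rw [hcardE]; ring
      _ ≤ _ := Nat.mul_le_mul_left 12 this
  · refine (Nat.Coprime.mul_dvd_of_dvd_of_dvd (show Nat.Coprime 2 3 by norm_num) hz2 ?_)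
    exact (dvd_pow_self 3 (show b' ≠ 0 by omega)).trans hz3
  · by_contra hab
    push Not at hab
    exact huc (Subgroup.mem_centralizer_iff.2 fun x _ => hab x u)

end SwapAut

end CfsgLib.Zassenhaus.Even
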