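import Cfsg.Agent.Zassenhaus.Even.Setup
import Cfsg.Agent.Small.ThompsonTransfer

/-!
# Simple sharply triply transitive groups: the parity obstruction

A sharply triply transitive group whose two-point stabiliser has a normal 2-complement has a
subgroup of index two: some 2-element is an odd permutation of the points, or of the cosets of a
subgroup of order twice that of a cyclic maximal subgroup of a quaternion Sylow subgroup.
-/

set_option autoImplicit false
set_option linter.style.haveILetI false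

namespace CfsgLib.Zassenhaus.Even

open MulAction Equiv

/-- A permutation all of whose moved points have period exactly `2 ^ (k + 1)`. -/
theorem sign_of_exact_period {α : Type*} [Fintype α] [DecidableEq α] (σ : Perm α) (k : ℕ)
    (h1 : σ ^ (2 ^ (k + 1)) = 1) (h2 : ∀ x, σ x ≠ x → (σ ^ (2 ^ k)) x ≠ x) :
    Perm.sign σ = (-1) ^ (σ.support.card / 2 ^ (k + 1)) := by
  haveI : Fact (Nat.Prime 2) := ⟨Nat.prime_two⟩
  have hall : ∀ n ∈ σ.cycleType, n = 2 ^ (k + 1) := by
    intro n hn
    have hdvd : n ∣ 2 ^ (k + 1) :=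
      (Perm.dvd_of_mem_cycleType hn).trans (orderOf_dvd_of_pow_eq_one h1)
    obtain ⟨i, hi, rfl⟩ := (Nat.dvd_prime_pow Nat.prime_two).1 hdvd
    rcases Nat.lt_or_ge i (k + 1) with hlt | hge
    · exfalso
      obtain ⟨c, hc, hcard⟩ : ∃ c ∈ σ.cycleFactorsFinset, c.support.card = 2 ^ i := by
        rw [Perm.cycleType_def] at hn
        simpa using hn
      obtain ⟨hcyc, -⟩ := Perm.mem_cycleFactorsFinset_iff.1 hc
      obtain ⟨x, hx⟩ := hcyc.nonempty_support
      have hσx : σ x ≠ x := Perm.mem_support.1 (Perm.mem_cycleFactorsFinset_support_le hc hx)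
      have hfix : (σ ^ (2 ^ i)) x = x := by
        rw [← Perm.cycleOf_pow_apply_self σ x (2 ^ i), ← Perm.cycle_is_cycleOf hx hc, ← hcard,
          ← hcyc.orderOf, pow_orderOf_eq_one, Perm.one_apply]
      refine h2 x hσx ?_
      obtain ⟨r, hr⟩ := Nat.exists_eq_add_of_le (Nat.lt_succ_iff.1 hlt)
      rw [hr, pow_add, pow_mul]
      exact Perm.pow_apply_eq_self_of_apply_eq_self hfix _
    · rw [show i = k + 1 by omega]
  have hrep : σ.cycleType = Multiset.replicate σ.cycleType.card (2 ^ (k + 1)) :=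
    Multiset.eq_replicate_card.2 hall
  have hs : σ.support.card = σ.cycleType.card * 2 ^ (k + 1) := by
    rw [← Perm.sum_cycleType]
    conv_lhs => rw [hrep]
    rw [Multiset.sum_replicate, smul_eq_mul]
  rw [Perm.sign_of_cycleType, Perm.sum_cycleType, hs,
    Nat.mul_div_cancel _ (by positivity : 0 < 2 ^ (k + 1)), pow_add,
    show σ.cycleType.card * 2 ^ (k + 1) = 2 * (σ.cycleType.card * 2 ^ k) by ring, pow_mul]
  simp

/-- A permutation moving every point, of order dividing four. -/
theorem sign_of_pow_four {α : Type*} [Fintype α] [DecidableEq α] (σ : Perm α)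
    (h1 : σ ^ 4 = 1) (h2 : ∀ x, σ x ≠ x) :
    Perm.sign σ = (-1) ^ (Fintype.card {x // (σ ^ 2) x = x} / 2) *
      (-1) ^ ((Fintype.card α - Fintype.card {x // (σ ^ 2) x = x}) / 4) := by
  have hp : ∀ x, (σ ^ 2) (σ x) = σ x ↔ (σ ^ 2) x = x := by
    intro x
    rw [← Perm.mul_apply, ← pow_succ, pow_succ', Perm.mul_apply]
    exact σ.injective.eq_iff
  set σ₁ := σ.subtypePerm (p := fun x => (σ ^ 2) x = x) hp
  set σ₂ := σ.subtypePerm (p := fun x => ¬ (σ ^ 2) x = x) (fun x => not_congr (hp x))
  have hsplit : σ = σ₁.subtypeCongr σ₂ := by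
    ext x
    by_cases h : (σ ^ 2) x = x
    · exact (Perm.subtypeCongr.left_apply (p := fun x => (σ ^ 2) x = x) σ₁ σ₂ h).symm
    · exact (Perm.subtypeCongr.right_apply (p := fun x => (σ ^ 2) x = x) σ₁ σ₂ h).symm
  have e1 : ∀ (x : {x // (σ ^ 2) x = x}) (n : ℕ), ((σ₁ ^ n) x : α) = (σ ^ n) x := fun x n => by
    rw [Perm.subtypePerm_pow]; rfl
  have e2 : ∀ (x : {x // ¬ (σ ^ 2) x = x}) (n : ℕ), ((σ₂ ^ n) x : α) = (σ ^ n) x := fun x n => by
    rw [Perm.subtypePerm_pow]; rfl
  have hs1 : Perm.sign σ₁ = (-1) ^ (Fintype.card {x // (σ ^ 2) x = x} / 2) := by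
    have hsup : σ₁.support = Finset.univ := by
      ext x
      simp only [Perm.mem_support, Finset.mem_univ, iff_true]
      exact fun h => h2 x (congrArg Subtype.val h)
    rw [sign_of_exact_period σ₁ 0 (Perm.ext fun x => Subtype.ext ((e1 x 2).trans x.2))
      (fun x hx => by rwa [pow_zero, pow_one]), hsup, Finset.card_univ]
    rfl
  have hs2 : Perm.sign σ₂ =
      (-1) ^ ((Fintype.card α - Fintype.card {x // (σ ^ 2) x = x}) / 4) := by
    have hsup : σ₂.support = Finset.univ := by
      ext x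
      simp only [Perm.mem_support, Finset.mem_univ, iff_true]
      exact fun h => h2 x (congrArg Subtype.val h)
    rw [sign_of_exact_period σ₂ 1 (Perm.ext fun x => Subtype.ext ((e2 x 4).trans (by rw [h1]; rfl)))
      (fun x _ h => x.2 ((e2 x 2).symm.trans (congrArg Subtype.val h))), hsup, Finset.card_univ,
      Fintype.card_subtype_compl]
    rfl
  rw [← hs1, ← hs2, ← Perm.sign_subtypeCongr σ₁ σ₂, ← hsplit]

/-- The subgroup generated by a subgroup and a normalising involution outside it. -/
theorem exists_double {G : Type*} [Group G] [Finite G] (H : Subgroup G) {w : G} (hw : w * w = 1)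
    (hwH : w ∉ H) (hconj : ∀ h ∈ H, w * h * w ∈ H) :
    ∃ M : Subgroup G, (∀ x, x ∈ M ↔ x ∈ H ∨ w * x ∈ H) ∧ Nat.card M = 2 * Nat.card H := by
  have hwinv : w⁻¹ = w := inv_eq_of_mul_eq_one_right hw
  have hww : ∀ x : G, w * (w * x) = x := fun x => by rw [← mul_assoc, hw, one_mul]
  let M : Subgroup G :=
    { carrier := {x | x ∈ H ∨ w * x ∈ H}
      one_mem' := Or.inl H.one_mem
      mul_mem' := by
        intro x y hx hy
        simp only [Set.mem_ofPred_eq] at hx hy ⊢
        rcases hx with hx | hx <;> rcases hy with hy | hy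
        · exact Or.inl (H.mul_mem hx hy)
        · refine Or.inr ?_
          rw [show w * (x * y) = w * x * w * (w * y) by
            rw [mul_assoc (w * x) w, hww, mul_assoc]]
          exact H.mul_mem (hconj x hx) hy
        · exact Or.inr (by rw [← mul_assoc]; exact H.mul_mem hx hy)
        · refine Or.inl ?_
          rw [show x * y = w * (w * x) * w * (w * y) by rw [hww, mul_assoc x w, hww]]
          exact H.mul_mem (hconj _ hx) hy
      inv_mem' := by
        intro x hx
        simp only [Set.mem_ofPred_eq] at hx ⊢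
        rcases hx with hx | hx
        · exact Or.inl (H.inv_mem hx)
        · refine Or.inr ?_
          have h := hconj _ (H.inv_mem hx)
          rwa [mul_inv_rev, hwinv, show w * (x⁻¹ * w) * w = w * x⁻¹ * (w * w) by group, hw,
            mul_one] at h }
  refine ⟨M, fun x => Iff.rfl, ?_⟩
  let f : H ⊕ H → M := Sum.elim (fun h => ⟨(h : G), Or.inl h.2⟩)
    (fun h => ⟨w * (h : G), Or.inr (by rw [hww]; exact h.2)⟩)
  have hf : Function.Bijective f := by
    have hne : ∀ p q : H, (p : G) ≠ w * (q : G) := fun p q h => hwH (by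
      rw [show w = (p : G) * (q : G)⁻¹ by rw [h, mul_inv_cancel_right]]
      exact H.mul_mem p.2 (H.inv_mem q.2))
    constructor
    · rintro (p | p) (q | q) h
      · exact congrArg Sum.inl (Subtype.ext (congrArg (fun z : M => (z : G)) h))
      · exact absurd (congrArg (fun z : M => (z : G)) h) (hne p q)
      · exact absurd (congrArg (fun z : M => (z : G)) h).symm (hne q p)
      · exact congrArg Sum.inr (Subtype.ext (mul_left_cancel (congrArg (fun z : M => (z : G)) h : w * (p : G) = w * (q : G))))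
    · rintro ⟨x, hx | hx⟩
      · exact ⟨Sum.inl ⟨x, hx⟩, rfl⟩
      · exact ⟨Sum.inr ⟨w * x, hx⟩, Subtype.ext (hww x)⟩
  rw [← Nat.card_eq_of_bijective f hf, Nat.card_sum, two_mul]

/-- Double count of the cosets fixed by `j`, when all involutions of `M` are conjugate to `j`. -/
theorem card_fixed_cosets {G : Type*} [Group G] [Finite G] (M C : Subgroup G) {j : G}
    (hj1 : j ≠ 1) (hjj : j * j = 1)
    (hC : ∀ g, g ∈ C ↔ g * j = j * g)
    (hconj : ∀ u ∈ M, u ≠ 1 → u * u = 1 → ∃ g : G, g⁻¹ * j * g = u) :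
    Nat.card {p : G ⧸ M // j • p = p} * Nat.card M =
      Nat.card {u : G // u ∈ M ∧ u ≠ 1 ∧ u * u = 1} * Nat.card C := by
  classical
  haveI := Fintype.ofFinite G
  rw [mul_comm (Nat.card {p : G ⧸ M // j • p = p})]
  have e1 : Nat.card {g : G // g⁻¹ * j * g ∈ M} = Nat.card M * Nat.card {p : G ⧸ M // j • p = p} := by
    rw [← Nat.card_prod]
    refine (Nat.card_congr (Equiv.subtypeEquivRight fun g => ?_)).trans
      (Nat.card_congr (QuotientGroup.preimageMkEquivSubgroupProdSet M {p : G ⧸ M | j • p = p}))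
    show g⁻¹ * j * g ∈ M ↔ ((j * g : G) : G ⧸ M) = (g : G ⧸ M)
    rw [eq_comm, QuotientGroup.eq, mul_assoc]
  rw [← e1]
  let f : {g : G // g⁻¹ * j * g ∈ M} → {u : G // u ∈ M ∧ u ≠ 1 ∧ u * u = 1} := fun g =>
    ⟨g.1⁻¹ * j * g.1, g.2, fun h => hj1 (by
      calc j = g.1 * (g.1⁻¹ * j * g.1) * g.1⁻¹ := by group
        _ = 1 := by rw [h, mul_one, mul_inv_cancel]), by
      calc g.1⁻¹ * j * g.1 * (g.1⁻¹ * j * g.1) = g.1⁻¹ * (j * j) * g.1 := by group
        _ = 1 := by rw [hjj, mul_one, inv_mul_cancel]⟩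
  have hfib : ∀ u, Nat.card {g // f g = u} = Nat.card C := by
    intro u
    obtain ⟨g₀, hg₀⟩ := hconj u.1 u.2.1 u.2.2.1 u.2.2.2
    refine Nat.card_congr
      { toFun := fun g => ⟨g.1.1 * g₀⁻¹, (hC _).2 ?_⟩
        invFun := fun c => ⟨⟨c.1 * g₀, ?_⟩, Subtype.ext ?_⟩
        left_inv := fun g => Subtype.ext (Subtype.ext (inv_mul_cancel_right _ _))
        right_inv := fun c => Subtype.ext (mul_inv_cancel_right _ _) }
    · have h : g.1.1⁻¹ * j * g.1.1 = g₀⁻¹ * j * g₀ :=
        (congrArg Subtype.val g.2).trans hg₀.symm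
      calc g.1.1 * g₀⁻¹ * j = g.1.1 * (g₀⁻¹ * j * g₀) * g₀⁻¹ := by group
        _ = g.1.1 * (g.1.1⁻¹ * j * g.1.1) * g₀⁻¹ := by rw [h]
        _ = j * (g.1.1 * g₀⁻¹) := by group
    · rw [show ((c : G) * g₀)⁻¹ * j * ((c : G) * g₀) = g₀⁻¹ * ((c : G)⁻¹ * (j * c)) * g₀ by group,
        ← (hC _).1 c.2, inv_mul_cancel_left, hg₀]
      exact u.2.1
    · show ((c : G) * g₀)⁻¹ * j * ((c : G) * g₀) = u.1
      rw [show ((c : G) * g₀)⁻¹ * j * ((c : G) * g₀) = g₀⁻¹ * ((c : G)⁻¹ * (j * c)) * g₀ by group,
        ← (hC _).1 c.2, inv_mul_cancel_left, hg₀]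
  haveI := Fintype.ofFinite {u : G // u ∈ M ∧ u ≠ 1 ∧ u * u = 1}
  rw [← Nat.card_congr (Equiv.sigmaFiberEquiv f), Nat.card_sigma, Finset.sum_congr rfl fun u _ => hfib u,
    Finset.sum_const, Finset.card_univ, smul_eq_mul, ← Nat.card_eq_fintype_card]

/-- An involutive automorphism fixes a Sylow 2-subgroup. -/
theorem exists_sylow_fixed {E : Type*} [Group E] [Finite E] (σ : MulAut E) (h : ∀ e, σ (σ e) = e) :
    ∃ P : Sylow 2 E, ∀ x ∈ (P : Subgroup E), σ x ∈ (P : Subgroup E) := by
  classical
  haveI : Fact (Nat.Prime 2) := ⟨Nat.prime_two⟩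
  haveI := Fintype.ofFinite (Sylow 2 E)
  have hodd : ¬ 2 ∣ Fintype.card (Sylow 2 E) := by
    rw [← Nat.card_eq_fintype_card]
    have := card_sylow_modEq_one 2 E
    unfold Nat.ModEq at this
    omega
  have hσ2 : σ ^ 2 = 1 := MulEquiv.ext fun e => by rw [pow_two]; exact h e
  obtain ⟨P, hP⟩ := Perm.exists_fixed_point_of_prime (σ := (MulAction.toPerm σ : Perm (Sylow 2 E)))
    (p := 2) (n := 1) hodd (by
      rw [pow_one]
      ext1 P
      rw [pow_two, Perm.mul_apply, Perm.one_apply]
      show σ • σ • P = P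
      rw [← mul_smul, ← pow_two, hσ2, one_smul])
  refine ⟨P, fun x hx => ?_⟩
  have hP' : σ • P = P := hP
  rw [← hP']
  exact Subgroup.smul_mem_pointwise_smul x σ _ hx

/-- Numerical form of the parity count. -/
theorem neg_one_pow_parity {O m I U f : ℕ} (hO : Odd O) (hI : I % 4 = 1)
    (hU : U = (8 * m + 2) * (8 * m + 1) * O) (hf : f = 2 * (O * I)) (hle : f ≤ U) :
    ((-1 : ℤˣ) ^ (f / 2) * (-1) ^ ((U - f) / 4) : ℤˣ) = -1 := by
  obtain ⟨r, hr⟩ : ∃ r, I = 4 * r + 1 := ⟨I / 4, by omega⟩
  obtain ⟨o, rfl⟩ := hO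
  subst hr hf
  have h1 : 2 * ((2 * o + 1) * (4 * r + 1)) / 2 = 2 * (4 * (o * r) + o + 2 * r) + 1 := by
    rw [Nat.mul_div_cancel_left _ two_pos]; ring
  obtain ⟨s, hs⟩ := Nat.exists_eq_add_of_le hle
  have e : U = 2 * (2 * o + 1) + 8 * ((2 * o + 1) * (8 * m * m + 3 * m)) := by
    rw [hU]; ring
  have hs8 : s % 8 = 0 := by
    have e2 : 2 * ((2 * o + 1) * (4 * r + 1)) = 8 * ((2 * o + 1) * r) + 2 * (2 * o + 1) := by ring
    generalize (2 * o + 1) * r = A at *
    generalize (2 * o + 1) * (8 * m * m + 3 * m) = B at *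
    omega
  obtain ⟨t, ht⟩ : ∃ t, (U - 2 * ((2 * o + 1) * (4 * r + 1))) / 4 = 2 * t := ⟨s / 8, by omega⟩
  rw [h1, ht, pow_succ, pow_mul, pow_mul]
  simp

namespace Frame

variable {G Ω : Type*} [Group G] [MulAction G Ω] [Finite G] [Finite Ω] (F : Frame G Ω)

include F in
omit [Finite G] [Finite Ω] in
theorem isPretransitive : IsPretransitive G Ω := by
  haveI := F.hZ.2.1
  exact MulAction.isPretransitive_of_is_two_pretransitive

omit [Finite G] in
omit [Finite Ω] in
theorem card_group : Nat.card G = Nat.card Ω * (Nat.card F.K * Nat.card F.E) := by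
  haveI := F.isPretransitive
  rw [← Subgroup.index_mul_card (stabilizer G F.a), index_stabilizer_of_transitive]
  congr 1
  rw [← Nat.card_prod]
  symm
  let f : F.K × F.E → stabilizer G F.a := fun p =>
    ⟨(p.1 : G) * (p.2 : G), mul_mem (F.K_le p.1.2) (Subgroup.mem_inf.1 p.2.2).1⟩
  refine Nat.card_eq_of_bijective f ⟨fun p q h => ?_, fun g => ?_⟩
  · have h1 : (p.1 : G) * (p.2 : G) = (q.1 : G) * (q.2 : G) := congrArg Subtype.val h
    have hk : p.1 = q.1 := Subtype.ext (F.eq_of_smul p.1.2 q.1.2 (by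
      have h2 := congrArg (fun g : G => g • F.b) h1
      simp only [mul_smul, (F.mem_E.1 p.2.2).2, (F.mem_E.1 q.2.2).2] at h2
      exact h2))
    refine Prod.ext hk (Subtype.ext (mul_left_cancel (a := (p.1 : G)) ?_))
    rw [h1, hk]
  · obtain ⟨x, hx, hxb⟩ := F.K_trans ((g : G) • F.b) (fun h =>
      F.ne.symm (MulAction.injective (g : G) (h.trans (mem_stabilizer_iff.1 g.2).symm)))
    refine ⟨⟨⟨x, hx⟩, ⟨x⁻¹ * g, F.mem_E.2 ⟨?_, ?_⟩⟩⟩, Subtype.ext (mul_inv_cancel_left x g)⟩
    · rw [mul_smul, mem_stabilizer_iff.1 g.2, inv_smul_eq_iff, mem_stabilizer_iff.1 (F.K_le hx)]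
    · rw [mul_smul, ← hxb, inv_smul_smul]

include F in
theorem no_index_two [IsSimpleGroup G] (H : Subgroup G) : H.index ≠ 2 := by
  intro h
  haveI := Fintype.ofFinite Ω
  haveI := Subgroup.normal_of_index_eq_two h
  rcases IsSimpleGroup.eq_bot_or_eq_top_of_normal H inferInstance with e | e
  · rw [e, Subgroup.index_bot] at h
    have h3 := CfsgLib.Perm.Zassenhaus.card_ge_three F.hZ
    rw [F.card_group, Nat.card_eq_fintype_card (α := Ω)] at h
    have hK : 0 < Nat.card F.K := Nat.card_pos
    have hE : 0 < Nat.card F.E := Nat.card_pos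
    nlinarith [Nat.mul_pos hK hE]
  · rw [e, Subgroup.index_top] at h
    omega

/-- A two-point stabiliser with a normal 2-complement is impossible in a simple group. -/
theorem false_of_complement [IsSimpleGroup G] (hd : Nat.card F.E + 2 = Nat.card Ω)
    (hcomp : Cfsg.HasNormalPComplement 2 F.E) : False := by
  classical
  haveI : Fact (Nat.Prime 2) := ⟨Nat.prime_two⟩
  haveI := Fintype.ofFinite Ω
  haveI := F.hZ.1
  have hno := F.no_index_two
  have hS := F.swapAut hd
  obtain ⟨P, hPσ⟩ := exists_sylow_fixed F.σ hS.invol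
  obtain ⟨P₀, O, hOn, hO₀⟩ := hcomp
  haveI := hOn
  have hOcard : Nat.card O = (P : Subgroup F.E).index := by
    rw [← hO₀.index_eq_card]
    have c1 : Nat.card (P : Subgroup F.E) = 2 ^ (Nat.card F.E).factorization 2 :=
      P.card_eq_multiplicity
    have c2 : Nat.card (P₀ : Subgroup F.E) = 2 ^ (Nat.card F.E).factorization 2 :=
      P₀.card_eq_multiplicity
    have h1 := Subgroup.index_mul_card (P : Subgroup F.E)
    have h2 := Subgroup.index_mul_card (P₀ : Subgroup F.E)
    rw [c1] at h1
    rw [c2] at h2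
    exact Nat.eq_of_mul_eq_mul_right (Nat.pow_pos two_pos) (h2.trans h1.symm)
  have hOodd : Odd (Nat.card O) := by
    rw [hOcard, Nat.odd_iff]
    have := P.not_dvd_index
    omega
  have hPcomp : Subgroup.IsComplement' O (P : Subgroup F.E) := by
    refine Subgroup.isComplement'_of_coprime ?_ ?_
    · rw [hOcard, Subgroup.index_mul_card]
    · rw [P.card_eq_multiplicity]
      exact ((Nat.coprime_two_left.2 hOodd).pow_left _).symm
  have hEcard : Nat.card F.E = Nat.card O * Nat.card (P : Subgroup F.E) := hPcomp.card_mul_card.symm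
  have hu2 : ∀ x y : (P : Subgroup F.E), x * x = 1 → x ≠ 1 → y * y = 1 → y ≠ 1 → x = y :=
    hS.unique_involution
  have hEne : ∀ e : F.E, e ≠ 1 → (e : G) ≠ 1 := fun e he h => he (Subtype.ext h)
  by_cases hcyc : IsCyclic (P : Subgroup F.E)
  · -- a generator of the Sylow subgroup is an odd permutation of the points
    obtain ⟨y, hy⟩ := IsCyclic.exists_generator (α := (P : Subgroup F.E))
    have hyord : orderOf y = Nat.card (P : Subgroup F.E) := orderOf_eq_card_of_forall_mem_zpowers hy
    obtain ⟨s, hs⟩ := IsPGroup.iff_card.1 P.isPGroup'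
    have hs0 : s ≠ 0 := by
      rintro rfl
      have h2 : 2 ∣ Nat.card F.E := by
        rw [← hS.orderOf_j]; exact orderOf_dvd_natCard _
      rw [hEcard, hs, pow_zero, mul_one] at h2
      exact (Nat.not_even_iff_odd.2 hOodd) (even_iff_two_dvd.2 h2)
    obtain ⟨k, rfl⟩ : ∃ k, s = k + 1 := ⟨s - 1, by omega⟩
    set z : G := ((y : F.E) : G) with hz
    have hzord : orderOf z = 2 ^ (k + 1) := by
      rw [hz, Subgroup.orderOf_coe, Subgroup.orderOf_coe, hyord, hs]
    obtain ⟨hza, hzb⟩ := F.mem_E.1 (y : F.E).2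
    let f := MulAction.toPermHom G Ω
    have hmove : ∀ i < orderOf z, i ≠ 0 → ∀ x, x ≠ F.a → x ≠ F.b → z ^ i • x ≠ x := by
      intro i hi hi0 x hxa hxb hfix
      refine pow_ne_one_of_lt_orderOf hi0 hi ?_
      have hmem : z ^ i ∈ F.E := pow_mem (y : F.E).2 i
      exact Zassenhaus.eq_one F.hZ F.ne (Ne.symm hxb) (Ne.symm hxa) (F.mem_E.1 hmem).1
        (F.mem_E.1 hmem).2 hfix
    have h1lt : 1 < orderOf z := by rw [hzord]; exact Nat.one_lt_two_pow (by omega)
    have hsupp : (f z).support = Finset.univ.filter fun x : Ω => x ≠ F.a ∧ x ≠ F.b := by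
      ext x
      simp only [Perm.mem_support, Finset.mem_filter, Finset.mem_univ, true_and]
      show z • x ≠ x ↔ _
      refine ⟨fun h => ⟨fun e => h (e ▸ hza), fun e => h (e ▸ hzb)⟩, fun h => ?_⟩
      have := hmove 1 h1lt one_ne_zero x h.1 h.2
      rwa [pow_one] at this
    have hsign := sign_of_exact_period (f z) k
      (by rw [← map_pow, ← hzord, pow_orderOf_eq_one, map_one])
      (fun x hx => by
        rw [← map_pow]
        show z ^ (2 ^ k) • x ≠ x
        have hxm : x ∈ (f z).support := Perm.mem_support.2 hx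
        rw [hsupp, Finset.mem_filter] at hxm
        exact hmove _ (by rw [hzord, pow_succ]; have := Nat.two_pow_pos k; omega)
          (Nat.two_pow_pos k).ne' x hxm.2.1 hxm.2.2)
    have hcard : (f z).support.card = Nat.card O * 2 ^ (k + 1) := by
      rw [hsupp, ← hs, ← hEcard]
      have h2 : (Finset.univ.filter fun d : Ω => d ≠ F.a ∧ d ≠ F.b) = ({F.a, F.b} : Finset Ω)ᶜ := by
        ext d; simp
      rw [h2, Finset.card_compl, Finset.card_pair F.ne, ← Nat.card_eq_fintype_card]
      omega
    rw [hcard, Nat.mul_div_cancel _ (Nat.two_pow_pos _), hOodd.neg_one_pow] at hsign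
    obtain ⟨H, hH⟩ := Small.exists_index_two_of_odd_perm f (g := z) (by rw [hsign]; decide)
    exact hno H hH
  · -- quaternion Sylow subgroups
    let φ : MulAut (P : Subgroup F.E) :=
      { toFun := fun x => ⟨F.σ x, hPσ _ x.2⟩
        invFun := fun x => ⟨F.σ x, hPσ _ x.2⟩
        left_inv := fun x => Subtype.ext (hS.invol _)
        right_inv := fun x => Subtype.ext (hS.invol _)
        map_mul' := fun x y => Subtype.ext (map_mul F.σ _ _) }
    have hφ : ∀ x, φ (φ x) = x := fun x => Subtype.ext (hS.invol _)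
    obtain ⟨a, hidx, h4, hout, hφa⟩ := exists_invariant P.isPGroup' hu2 hcyc φ hφ
    let ι : (P : Subgroup F.E) →* G := F.E.subtype.comp (P : Subgroup F.E).subtype
    have hι : Function.Injective ι := fun x y h => Subtype.ext (Subtype.ext h)
    have hισ : ∀ x, ι (φ x) = F.w * ι x * F.w := fun x => rfl
    have hιE : ∀ x, ι x ∈ F.E := fun x => x.1.2
    set Cg : Subgroup G := (Subgroup.zpowers a).map ι with hCg
    have hmemC : ∀ g : G, g ∈ Cg ↔ ∃ c ∈ Subgroup.zpowers a, ι c = g := fun g => Subgroup.mem_map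
    have hCE : ∀ g ∈ Cg, g ∈ F.E := by
      intro g hg
      obtain ⟨c, -, rfl⟩ := (hmemC g).1 hg
      exact hιE c
    have hCw : ∀ g ∈ Cg, F.w * g * F.w ∈ Cg := by
      intro g hg
      obtain ⟨c, hc, rfl⟩ := (hmemC g).1 hg
      refine (hmemC _).2 ⟨φ c, ?_, hισ c⟩
      obtain ⟨m, rfl⟩ := Subgroup.mem_zpowers_iff.1 hc
      rw [map_zpow]
      exact zpow_mem hφa m
    obtain ⟨M, hM, hMcard⟩ := exists_double Cg F.w_sq (fun h => F.w_notMem (hCE _ h)) hCw
    have hMw : ∀ g ∈ M, F.w * g * F.w ∈ M := by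
      intro g hg
      have hwM : F.w ∈ M := (hM _).2 (Or.inr (by rw [F.w_sq]; exact one_mem _))
      exact mul_mem (mul_mem hwM hg) hwM
    have hCgcard : Nat.card Cg = orderOf a := by
      rw [hCg, Subgroup.card_map_of_injective hι, Nat.card_zpowers]
    have hPcard : Nat.card (P : Subgroup F.E) = 2 * orderOf a := by
      rw [← Subgroup.index_mul_card (Subgroup.zpowers a), hidx, Nat.card_zpowers]
    obtain ⟨k, hk⟩ := orderOf_two_pow P.isPGroup' a
    obtain ⟨k, rfl⟩ : ∃ k', k = k' + 2 := by
      refine ⟨k - 2, ?_⟩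
      by_contra hcon
      have : k < 2 := by omega
      interval_cases k <;> omega
    -- the element outside the invariant cyclic subgroup
    obtain ⟨x, hxC⟩ : ∃ x, x ∉ Subgroup.zpowers a := by
      by_contra hall
      push Not at hall
      rw [(Subgroup.eq_top_iff' _).2 hall, Subgroup.index_top] at hidx
      omega
    have hx4 : orderOf x = 4 := hout x hxC
    have hinvol : ∀ g : G, g ∈ F.E → g * g = 1 → g ≠ 1 → g = F.j := fun g hg hgg hg1 =>
      (F.j_unique g (F.mem_E.1 hg).1 (F.mem_E.1 hg).2 hgg).resolve_left hg1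
    have hxx : ι x * ι x = F.j := by
      refine hinvol _ (mul_mem (hιE x) (hιE x)) ?_ ?_
      · have : x * x * (x * x) = 1 := by
          rw [← pow_two, ← pow_two, ← pow_mul, show 2 * 2 = orderOf x by omega, pow_orderOf_eq_one]
        rw [← map_mul, ← map_mul, this, map_one]
      · intro h
        rw [← map_mul, ← pow_two, ← map_one ι] at h
        have := orderOf_dvd_of_pow_eq_one (hι h)
        rw [hx4] at this
        exact absurd this (by norm_num)
    have hxnot : ∀ g : G, g⁻¹ * ι x * g ∉ M := by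
      have hE : ∀ g ∈ F.E, g⁻¹ * ι x * g ∉ Cg := by
        intro g hg h
        obtain ⟨c, hc, hcg⟩ := (hmemC _).1 h
        obtain ⟨⟨⟨o, ho⟩, q⟩, hoq, -⟩ := hPcomp.existsUnique ⟨g, hg⟩
        have hog : (o : G) * ι q = g := congrArg Subtype.val hoq
        haveI := Subgroup.normal_of_index_eq_two hidx
        have hc' : q * c * q⁻¹ ∈ Subgroup.zpowers a :=
          Subgroup.Normal.conj_mem inferInstance c hc q
        have heq : o⁻¹ * (x : F.E) * o = ((q * c * q⁻¹ : (P : Subgroup F.E)) : F.E) := by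
          refine Subtype.ext ?_
          show (o : G)⁻¹ * ι x * (o : G) = ι q * ι c * (ι q)⁻¹
          rw [hcg, ← hog]
          group
        have hO1 : (x : F.E)⁻¹ * o⁻¹ * (x : F.E) * o ∈ O := by
          refine mul_mem ?_ ho
          have := hOn.conj_mem _ (inv_mem ho) (x : F.E)⁻¹
          rwa [inv_inv] at this
        have hP1 : (x : F.E)⁻¹ * o⁻¹ * (x : F.E) * o ∈ (P : Subgroup F.E) := by
          rw [show (x : F.E)⁻¹ * o⁻¹ * (x : F.E) * o = (x : F.E)⁻¹ * (o⁻¹ * (x : F.E) * o) by group,
            heq]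
          exact mul_mem (inv_mem x.2) (q * c * q⁻¹).2
        have h1 : (x : F.E)⁻¹ * o⁻¹ * (x : F.E) * o = 1 :=
          Subgroup.disjoint_def.1 hPcomp.disjoint hO1 hP1
        refine hxC ?_
        have hxeq : x = q * c * q⁻¹ := Subtype.ext (by
          rw [← heq, ← inv_mul_eq_one.1
            (show (x : F.E)⁻¹ * (o⁻¹ * (x : F.E) * o) = 1 by rw [← h1]; group)])
        rwa [hxeq]
      intro g hg
      have hsq : g⁻¹ * F.j * g ∈ M := by
        rw [← hxx, show g⁻¹ * (ι x * ι x) * g = g⁻¹ * ι x * g * (g⁻¹ * ι x * g) by group]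
        exact mul_mem hg hg
      have hsq' : g⁻¹ * F.j * g ∈ Cg := by
        rcases (hM _).1 hg with h | h
        · rw [← hxx, show g⁻¹ * (ι x * ι x) * g = g⁻¹ * ι x * g * (g⁻¹ * ι x * g) by group]
          exact mul_mem h h
        · rw [← hxx, show g⁻¹ * (ι x * ι x) * g =
            F.w⁻¹ * (F.w * (g⁻¹ * ι x * g)) * F.w⁻¹ * (F.w * (g⁻¹ * ι x * g)) by group, F.w_inv]
          exact mul_mem (hCw _ h) h
      have hgj : g⁻¹ * F.j * g = F.j := hinvol _ (hCE _ hsq')
        (by
          calc g⁻¹ * F.j * g * (g⁻¹ * F.j * g) = g⁻¹ * (F.j * F.j) * g := by group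
            _ = 1 := by rw [F.j_sq, mul_one, inv_mul_cancel])
        (fun h => F.j_ne (by
          calc F.j = g * (g⁻¹ * F.j * g) * g⁻¹ := by group
            _ = 1 := by rw [h, mul_one, mul_inv_cancel]))
      have hcomm : g * F.j = F.j * g := by
        conv_lhs => rw [← hgj]
        group
      have hin : ∀ g ∈ F.E, g⁻¹ * ι x * g ∈ M → False := by
        intro g hgE hgM
        rcases (hM _).1 hgM with h | h
        · exact hE g hgE h
        · refine F.w_notMem ?_
          rw [← mul_inv_cancel_right F.w (g⁻¹ * ι x * g)]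
          exact mul_mem (hCE _ h) (inv_mem (mul_mem (mul_mem (inv_mem hgE) (hιE x)) hgE))
      rcases F.cent_j hcomm with hgE | hgE
      · exact hin g hgE hg
      · have hgw : g * F.w ∈ F.E := by
          have := F.conj_w_mem hgE
          rwa [← mul_assoc, F.w_sq, one_mul] at this
        refine hin (g * F.w) hgw ?_
        rw [show (g * F.w)⁻¹ * ι x * (g * F.w) = F.w⁻¹ * (g⁻¹ * ι x * g) * F.w by group, F.w_inv]
        exact hMw _ hg
    -- arithmetic of the orders
    have hKc : Nat.card F.K = Nat.card F.E + 1 := by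
      have := F.K_card
      omega
    set o := Nat.card O with ho
    have hEc : Nat.card F.E = o * (2 * 2 ^ (k + 2)) := by rw [hEcard, hPcard, hk]
    have hGc : Nat.card G = (o * (2 * 2 ^ (k + 2)) + 2) * ((o * (2 * 2 ^ (k + 2)) + 1) *
        (o * (2 * 2 ^ (k + 2)))) := by
      rw [F.card_group, hKc, ← hd, hEc]
    -- all involutions are conjugate
    have hconj : ∀ u : G, u ≠ 1 → u * u = 1 → ∃ g : G, g⁻¹ * F.j * g = u := by
      intro u hu1 huu
      let Qg : Subgroup G := (P : Subgroup F.E).map F.E.subtype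
      have hQc : Nat.card Qg = 2 * 2 ^ (k + 2) := by
        rw [Subgroup.card_map_of_injective F.E.subtype_injective, hPcard, hk]
      have hQidx : Qg.index = (o * (2 * 2 ^ (k + 2)) + 2) * ((o * (2 * 2 ^ (k + 2)) + 1) * o) := by
        have h := Subgroup.index_mul_card Qg
        rw [hQc, hGc] at h
        exact Nat.eq_of_mul_eq_mul_right (show 0 < 2 * 2 ^ (k + 2) by positivity)
          (h.trans (by ring))
      obtain ⟨g, hg⟩ := Small.thompson_transfer hno Qg (u := u)
        (orderOf_eq_prime (by rw [pow_two]; exact huu) hu1) (by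
          obtain ⟨o', ho'⟩ := hOodd
          rw [hQidx, ho', show ((2 * o' + 1) * (2 * 2 ^ (k + 2)) + 2) *
              (((2 * o' + 1) * (2 * 2 ^ (k + 2)) + 1) * (2 * o' + 1)) =
            4 * ((2 * o' + 1) * 2 ^ (k + 1) * (((2 * o' + 1) * (2 * 2 ^ (k + 2)) + 1) * (2 * o' + 1)) +
              (o' + (2 * o' + 1) * (2 * o' + 1) * 2 ^ (k + 2))) + 2 by ring]
          omega)
      refine ⟨g⁻¹, ?_⟩
      obtain ⟨e, he, hge⟩ := Subgroup.mem_map.1 hg
      have : g⁻¹ * u * g = F.j := hinvol _ (hge ▸ e.2)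
        (by
          calc g⁻¹ * u * g * (g⁻¹ * u * g) = g⁻¹ * (u * u) * g := by group
            _ = 1 := by rw [huu, mul_one, inv_mul_cancel])
        (fun h => hu1 (by
          calc u = g * (g⁻¹ * u * g) * g⁻¹ := by group
            _ = 1 := by rw [h, mul_one, mul_inv_cancel]))
      rw [← this]
      group
    -- the centraliser of j
    obtain ⟨Cj, hCj, hCjcard⟩ := exists_double F.E F.w_sq F.w_notMem (fun e he => F.conj_w_mem he)
    have hCjmem : ∀ g, g ∈ Cj ↔ g * F.j = F.j * g := by
      intro g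
      rw [hCj]
      refine ⟨?_, F.cent_j⟩
      have hEj : ∀ e ∈ F.E, e * F.j = F.j * e := fun e he =>
        congrArg Subtype.val (Subgroup.mem_center_iff.1 hS.j_central ⟨e, he⟩)
      rintro (h | h)
      · exact hEj g h
      · calc g * F.j = F.w⁻¹ * (F.w * g * F.j) := by group
          _ = F.w * (F.j * (F.w * g)) := by rw [hEj _ h, F.w_inv]
          _ = F.j * g := by rw [← mul_assoc, F.w_j, mul_assoc, ← mul_assoc F.w F.w, F.w_sq, one_mul]
    have hfix := card_fixed_cosets M Cj F.j_ne F.j_sq hCjmem (fun u _ h1 h2 => hconj u h1 h2)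
    -- the involutions in M
    have hI : Nat.card {u : G // u ∈ M ∧ u ≠ 1 ∧ u * u = 1} % 4 = 1 := by
      haveI : IsMulCommutative Cg := by
        rw [hCg]
        infer_instance
      let Inv : Subgroup G :=
        { carrier := {c | c ∈ Cg ∧ F.w * c * F.w = c⁻¹}
          one_mem' := ⟨one_mem _, by rw [mul_one, F.w_sq, inv_one]⟩
          mul_mem' := by
            rintro c d ⟨hc, hc'⟩ ⟨hd', hd''⟩
            refine ⟨mul_mem hc hd', ?_⟩
            calc F.w * (c * d) * F.w = F.w * c * (F.w * F.w) * d * F.w := by rw [F.w_sq]; group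
              _ = (F.w * c * F.w) * (F.w * d * F.w) := by group
              _ = c⁻¹ * d⁻¹ := by rw [hc', hd'']
              _ = (c * d)⁻¹ := by
                rw [mul_inv_rev]
                exact setLike_mul_comm (inv_mem hc) (inv_mem hd')
          inv_mem' := by
            rintro c ⟨hc, hc'⟩
            refine ⟨inv_mem hc, ?_⟩
            rw [show F.w * c⁻¹ * F.w = (F.w⁻¹ * c * F.w⁻¹)⁻¹ by group, F.w_inv, hc'] }
      have hInvC : Inv ≤ Cg := fun c hc => hc.1
      -- an element of order four is inverted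
      set a4 : (P : Subgroup F.E) := a ^ (2 ^ k) with ha4
      have ha4o : orderOf a4 = 4 := by
        rw [ha4, orderOf_pow' a (Nat.two_pow_pos k).ne', hk,
          Nat.gcd_eq_right (pow_dvd_pow 2 (by omega)), Nat.pow_div (by omega) two_pos]
        norm_num
      have ha4C : ι a4 ∈ Cg := (hmemC _).2 ⟨a4, pow_mem (Subgroup.mem_zpowers a) _, rfl⟩
      have ha4inv : F.w * ι a4 * F.w = (ι a4)⁻¹ := by
        rw [← hισ, ← map_inv]
        congr 1
        have h1 : φ a4 ∈ Subgroup.zpowers a := by
          rw [ha4, map_pow]; exact pow_mem hφa _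
        obtain ⟨i, hi⟩ := (mem_powers_iff_mem_zpowers (x := a)).2 h1
        have h1' : a ^ i = φ a4 := hi
        have hdvd : 2 ^ (k + 2) ∣ i * 4 := by
          rw [← hk]
          refine orderOf_dvd_of_pow_eq_one ?_
          rw [pow_mul, h1', ← map_pow, ← ha4o, pow_orderOf_eq_one, map_one]
        obtain ⟨r, hr⟩ : 2 ^ k ∣ i := by
          rw [pow_add, show (2 : ℕ) ^ 2 = 4 by norm_num] at hdvd
          exact Nat.dvd_of_mul_dvd_mul_right (by norm_num) hdvd
        rw [hr, pow_mul, ← ha4, ← pow_mod_orderOf, ha4o] at h1'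
        have hr4 : r % 4 < 4 := Nat.mod_lt _ (by norm_num)
        have hford : orderOf (φ a4) = 4 := by rw [MulEquiv.orderOf_eq, ha4o]
        interval_cases hrr : r % 4
        · rw [← h1', pow_zero, orderOf_one] at hford
          omega
        · exfalso
          rw [pow_one] at h1'
          rcases hS.fixed (a4 : F.E) (congrArg Subtype.val h1'.symm) with e | e
          · rw [show a4 = 1 from Subtype.ext e, orderOf_one] at ha4o
            omega
          · have := hS.orderOf_j
            rw [← e, Subgroup.orderOf_coe, ha4o] at this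
            omega
        · exfalso
          rw [← h1', orderOf_pow' a4 two_ne_zero, ha4o] at hford
          norm_num at hford
        · rw [← h1']
          exact eq_inv_of_mul_eq_one_left (by rw [← pow_succ, show 3 + 1 = orderOf a4 by omega, pow_orderOf_eq_one])
      have h4dvd : 4 ∣ Nat.card Inv := by
        have h := orderOf_dvd_natCard (G := Inv) ⟨ι a4, ha4C, ha4inv⟩
        rwa [← Subgroup.orderOf_coe, orderOf_injective ι hι, ha4o] at h
      let e : Option Inv → {u : G // u ∈ M ∧ u ≠ 1 ∧ u * u = 1} := fun o => match o with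
        | none => ⟨F.j, (hM _).2 (Or.inl (by
            have : F.j = ι (a4 * a4) := by
              refine (hinvol _ (hιE _) ?_ ?_).symm
              · rw [← map_mul, show a4 * a4 * (a4 * a4) = a4 ^ 4 by
                  simp only [pow_succ, pow_zero, one_mul, mul_assoc], ← ha4o, pow_orderOf_eq_one, map_one]
              · intro h
                rw [← map_one ι] at h
                have := orderOf_dvd_of_pow_eq_one ((pow_two a4).trans (hι h))
                rw [ha4o] at this
                exact absurd this (by norm_num)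
            rw [this]
            exact (hmemC _).2 ⟨_, mul_mem (pow_mem (Subgroup.mem_zpowers a) _)
              (pow_mem (Subgroup.mem_zpowers a) _), rfl⟩)), F.j_ne, F.j_sq⟩
        | some c => ⟨F.w * (c : G), (hM _).2 (Or.inr (by
            rw [← mul_assoc, F.w_sq, one_mul]; exact c.2.1)),
            fun h => F.w_notMem (by
              rw [eq_inv_of_mul_eq_one_left h]; exact inv_mem (hCE _ c.2.1)),
            by
              calc F.w * (c : G) * (F.w * (c : G)) = F.w * (c : G) * F.w * (c : G) := by group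
                _ = 1 := by rw [c.2.2, inv_mul_cancel]⟩
      have he : Function.Bijective e := by
        constructor
        · rintro (_ | p) (_ | q) h
          · rfl
          · refine absurd ?_ F.w_notMem
            have h' : F.j = F.w * (q : G) := congrArg Subtype.val h
            rw [show F.w = F.j * (q : G)⁻¹ by rw [h', mul_inv_cancel_right]]
            exact mul_mem F.j_mem_E (inv_mem (hCE _ q.2.1))
          · refine absurd ?_ F.w_notMem
            have h' : F.w * (p : G) = F.j := congrArg Subtype.val h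
            rw [show F.w = F.j * (p : G)⁻¹ by rw [← h', mul_inv_cancel_right]]
            exact mul_mem F.j_mem_E (inv_mem (hCE _ p.2.1))
          · exact congrArg some (Subtype.ext (mul_left_cancel (congrArg Subtype.val h : F.w * (p : G) = F.w * (q : G))))
        · rintro ⟨u, huM, hu1, huu⟩
          rcases (hM _).1 huM with h | h
          · exact ⟨none, Subtype.ext (hinvol u (hCE _ h) huu hu1).symm⟩
          · refine ⟨some ⟨F.w * u, h, ?_⟩, Subtype.ext (show F.w * (F.w * u) = u by
              rw [← mul_assoc, F.w_sq, one_mul])⟩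
            have : u⁻¹ = u := inv_eq_of_mul_eq_one_right huu
            rw [mul_inv_rev, this, F.w_inv, ← mul_assoc F.w F.w, F.w_sq, one_mul]
      rw [← Nat.card_eq_of_bijective e he, Finite.card_option]
      omega
    -- the sign
    haveI := Fintype.ofFinite (G ⧸ M)
    let f := MulAction.toPermHom G (G ⧸ M)
    have hmove : ∀ p : G ⧸ M, f (ι x) p ≠ p := by
      intro p
      induction p using QuotientGroup.induction_on with
      | _ g =>
        show ((ι x * g : G) : G ⧸ M) ≠ (g : G ⧸ M)
        rw [ne_comm, ne_eq, QuotientGroup.eq, ← mul_assoc]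
        exact hxnot g
    have hsq : f (ι x) ^ 2 = f F.j := by rw [← map_pow, pow_two, hxx]
    have hsign := sign_of_pow_four (f (ι x)) (by
      rw [show (4 : ℕ) = 2 * 2 by norm_num, pow_mul, hsq, ← map_pow, pow_two, F.j_sq, map_one]) hmove
    rw [← Nat.card_eq_fintype_card, ← Nat.card_eq_fintype_card, ← Subgroup.index_eq_card] at hsign
    have hcongr : Nat.card {p : G ⧸ M // (f (ι x) ^ 2) p = p} =
        Nat.card {p : G ⧸ M // F.j • p = p} :=
      Nat.card_congr (Equiv.subtypeEquivRight fun p => by rw [hsq]; rfl)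
    rw [hcongr] at hsign
    have hU : M.index = (8 * (o * 2 ^ k) + 2) * (8 * (o * 2 ^ k) + 1) * o := by
      have h := Subgroup.index_mul_card M
      rw [hMcard, hCgcard, hk, hGc] at h
      exact Nat.eq_of_mul_eq_mul_right (show 0 < 2 * 2 ^ (k + 2) by positivity) (h.trans (by ring))
    have hf : Nat.card {p : G ⧸ M // F.j • p = p} =
        2 * (o * Nat.card {u : G // u ∈ M ∧ u ≠ 1 ∧ u * u = 1}) := by
      rw [hMcard, hCgcard, hk, hCjcard, hEc] at hfix
      exact Nat.eq_of_mul_eq_mul_right (show 0 < 2 * 2 ^ (k + 2) by positivity) (hfix.trans (by ring))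
    rw [neg_one_pow_parity hOodd hI hU hf
      (le_of_le_of_eq (Finite.card_subtype_le _) (Subgroup.index_eq_card M).symm)] at hsign
    obtain ⟨H, hH⟩ := Small.exists_index_two_of_odd_perm f (g := ι x) (by rw [hsign]; decide)
    exact hno H hH

end Frame

end CfsgLib.Zassenhaus.Even
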