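import Cfsg.Agent.TwoGroupsQ.UniqueInvolution

/-!
# Automorphisms of 2-groups with a single involution

* `quaternion_data`: the cyclic subgroup of index two;
* `aut_eq_one`: automorphisms of odd order are trivial unless the order is eight;
* `aut_pow_three`: for order eight their cube is trivial;
* `exists_invariant`: an automorphism of order two fixes a cyclic subgroup of index two.
-/

set_option autoImplicit false
set_option linter.style.haveILetI false

namespace CfsgLib.Zassenhaus.Even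

open QuaternionGroup in
/-- A non-cyclic 2-group with a single involution has a cyclic subgroup of index two outside which
all elements have order four. -/
theorem quaternion_data {P : Type*} [Group P] [Finite P] (hP : IsPGroup 2 P)
    (hu : ∀ x y : P, x * x = 1 → x ≠ 1 → y * y = 1 → y ≠ 1 → x = y) (hnc : ¬ IsCyclic P) :
    ∃ a : P, (Subgroup.zpowers a).index = 2 ∧ 4 ≤ orderOf a ∧
      ∀ x, x ∉ Subgroup.zpowers a → orderOf x = 4 := by
  haveI : Fact (Nat.Prime 2) := ⟨Nat.prime_two⟩
  obtain h | ⟨-, m, hm, ⟨e⟩⟩ := TwoGroupsQ.isCyclic_or_quaternion hP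
    (TwoGroupsQ.hasUniqueOrderP_two fun x y hx hx1 hy hy1 =>
      hu x y (by rwa [← pow_two]) hx1 (by rwa [← pow_two]) hy1)
  · exact absurd h hnc
  haveI : NeZero (2 ^ m) := ⟨by positivity⟩
  have hord : orderOf (e.symm (a 1)) = 2 * 2 ^ m := by
    rw [MulEquiv.orderOf_eq, orderOf_a_one]
  refine ⟨e.symm (a 1), ?_, ?_, fun x hx => ?_⟩
  · have h1 := Subgroup.index_mul_card (Subgroup.zpowers (e.symm (a 1)))
    rw [Nat.card_zpowers, hord, Nat.card_congr e.toEquiv, Nat.card_eq_fintype_card,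
      QuaternionGroup.card] at h1
    exact Nat.eq_of_mul_eq_mul_right (show 0 < 2 * 2 ^ m by positivity) (h1.trans (by ring))
  · rw [hord]
    have := Nat.pow_le_pow_right (show 1 ≤ 2 by norm_num) hm
    omega
  · rcases he : e x with i | i
    · refine absurd ?_ hx
      rw [← e.symm_apply_apply x, he, show a i = (a 1 : QuaternionGroup (2 ^ m)) ^ i.val by
        rw [a_one_pow, ZMod.natCast_zmod_val], map_pow]
      exact pow_mem (Subgroup.mem_zpowers _) _
    · rw [← MulEquiv.orderOf_eq e, he, orderOf_xa]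

variable {P : Type*} [Group P] [Finite P]

omit [Finite P] in
/-- An automorphism of odd order preserving a cyclic 2-subgroup fixes it. -/
theorem fix_of_zpowers (φ : MulAut P) {n : ℕ} (hn : Odd n) (hφ : φ ^ n = 1) {a : P} {m : ℕ}
    (ha : orderOf a = 2 ^ m) (hmem : φ a ∈ Subgroup.zpowers a) : φ a = a := by
  obtain ⟨k, hk⟩ := Subgroup.mem_zpowers_iff.1 hmem
  have hiter : ∀ i : ℕ, (φ ^ i) a = a ^ (k ^ i) := by
    intro i
    induction i with
    | zero => simp
    | succ i ih =>
      rw [pow_succ, MulAut.mul_apply, ← hk, map_zpow, ih, ← zpow_mul, ← pow_succ]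
  have h1 : ((k : ZMod (2 ^ m)) ^ n) = 1 := by
    have h2 := hiter n
    rw [hφ, MulAut.one_apply] at h2
    nth_rw 1 [← zpow_one a] at h2
    rw [zpow_eq_zpow_iff_modEq, ha, ← ZMod.intCast_eq_intCast_iff] at h2
    push_cast at h2
    exact h2.symm
  have hn0 : n ≠ 0 := fun h => by simp [h] at hn
  obtain ⟨u, hu⟩ : IsUnit (k : ZMod (2 ^ m)) := IsUnit.of_pow_eq_one h1 hn0
  have hu1 : u ^ n = 1 := Units.ext (by rw [Units.val_pow_eq_pow_val, hu]; exact h1)
  have hone : u = 1 := by
    haveI : NeZero (2 ^ m) := ⟨by positivity⟩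
    have h3 : orderOf u ∣ n := orderOf_dvd_of_pow_eq_one hu1
    have h4 : orderOf u ∣ Fintype.card (ZMod (2 ^ m))ˣ := orderOf_dvd_card
    rw [ZMod.card_units_eq_totient] at h4
    rcases Nat.eq_zero_or_pos m with rfl | hm
    · haveI : Subsingleton (ZMod (2 ^ 0)) := ZMod.subsingleton_iff.2 rfl
      exact Units.ext (Subsingleton.elim _ _)
    rw [Nat.totient_prime_pow Nat.prime_two hm, show (2 : ℕ) - 1 = 1 from rfl, mul_one] at h4
    obtain ⟨i, -, hi⟩ := (Nat.dvd_prime_pow Nat.prime_two).1 h4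
    rcases Nat.eq_zero_or_pos i with rfl | hi0
    · exact orderOf_eq_one_iff.1 (by simpa using hi)
    · exfalso
      rw [hi] at h3
      exact (Nat.not_even_iff_odd.2 hn) (even_iff_two_dvd.2 ((dvd_pow_self 2 hi0.ne').trans h3))
  have hk1 : (k : ZMod (2 ^ m)) = ((1 : ℤ) : ZMod (2 ^ m)) := by rw [← hu, hone]; simp
  rw [← hk]
  nth_rw 2 [← zpow_one a]
  rw [zpow_eq_zpow_iff_modEq, ha]
  exact (ZMod.intCast_eq_intCast_iff _ _ _).1 hk1

omit [Finite P] in
theorem orderOf_two_pow (hP : IsPGroup 2 P) (x : P) : ∃ m, orderOf x = 2 ^ m := by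
  haveI : Fact (Nat.Prime 2) := ⟨Nat.prime_two⟩
  exact IsPGroup.iff_orderOf.1 hP x

omit [Finite P] in
/-- An automorphism of odd order fixing a cyclic subgroup of index two is trivial. -/
theorem eq_one_of_fix (hP : IsPGroup 2 P) {φ : MulAut P} {a : P}
    (hidx : (Subgroup.zpowers a).index = 2) {n : ℕ} (hn : Odd n) (hφ : φ ^ n = 1) (hfix : φ a = a) :
    φ = 1 := by
  obtain ⟨m, hm⟩ := orderOf_two_pow hP a
  refine MulEquiv.ext fun x => ?_
  show φ x = x
  by_cases hx : x ∈ Subgroup.zpowers a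
  · obtain ⟨k, rfl⟩ := Subgroup.mem_zpowers_iff.1 hx
    rw [map_zpow, hfix]
  have hd : x⁻¹ * φ x ∈ Subgroup.zpowers a := by
    rw [Subgroup.mul_mem_iff_of_index_two hidx, inv_mem_iff]
    refine iff_of_false hx fun h => hx ?_
    obtain ⟨k, hk⟩ := Subgroup.mem_zpowers_iff.1 h
    refine Subgroup.mem_zpowers_iff.2 ⟨k, φ.injective ?_⟩
    rw [map_zpow, hfix, hk]
  obtain ⟨t, ht⟩ := Subgroup.mem_zpowers_iff.1 hd
  have hiter : ∀ i : ℕ, (φ ^ i) x = x * a ^ (t * i) := by
    intro i
    induction i with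
    | zero => simp
    | succ i ih =>
      rw [pow_succ', MulAut.mul_apply, ih, map_mul, map_zpow, hfix,
        show φ x = x * a ^ t by rw [ht, mul_inv_cancel_left], mul_assoc, ← zpow_add]
      push_cast
      rw [show t + t * (i : ℤ) = t * ((i : ℤ) + 1) by ring]
  have h1 := hiter n
  rw [hφ, MulAut.one_apply, left_eq_mul, ← orderOf_dvd_iff_zpow_eq_one, hm] at h1
  have h2 : ((2 ^ m : ℕ) : ℤ) ∣ t := by
    refine (IsCoprime.dvd_of_dvd_mul_right ?_ h1)
    exact Int.isCoprime_iff_nat_coprime.2 (by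
      simpa using (Nat.coprime_two_left.2 hn).pow_left m)
  rw [← hm, orderOf_dvd_iff_zpow_eq_one] at h2
  rw [← mul_inv_cancel_left x (φ x), ← ht, h2, mul_one]


/-- A cyclic 2-group has no non-trivial automorphism of odd order, nor has a generalised
quaternion group of order different from eight. -/
theorem aut_eq_one (hP : IsPGroup 2 P)
    (hu : ∀ x y : P, x * x = 1 → x ≠ 1 → y * y = 1 → y ≠ 1 → x = y)
    (h8 : IsCyclic P ∨ Nat.card P ≠ 8) (φ : MulAut P) {n : ℕ} (hn : Odd n) (hφ : φ ^ n = 1) :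
    φ = 1 := by
  by_cases hc : IsCyclic P
  · obtain ⟨a, ha⟩ := hc.exists_zpow_surjective
    obtain ⟨m, hm⟩ := orderOf_two_pow hP a
    have hfix := fix_of_zpowers φ hn hφ hm (Subgroup.mem_zpowers_iff.2 (ha (φ a)))
    refine MulEquiv.ext fun x => ?_
    obtain ⟨k, rfl⟩ := ha x
    show φ (a ^ k) = a ^ k
    rw [map_zpow, hfix]
  have h8' := h8.resolve_left hc
  obtain ⟨a, hidx, h4, hout⟩ := quaternion_data hP hu hc
  have hbig : orderOf a ≠ 4 := fun h => h8' (by
    rw [← Subgroup.index_mul_card (Subgroup.zpowers a), hidx, Nat.card_zpowers, h])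
  obtain ⟨m, hm⟩ := orderOf_two_pow hP a
  have hfix : φ a = a := by
    refine fix_of_zpowers φ hn hφ hm ?_
    by_contra hmem
    exact hbig ((MulEquiv.orderOf_eq φ a).symm.trans (hout _ hmem))
  exact eq_one_of_fix hP hidx hn hφ hfix

/-- In order eight the cube of an automorphism of odd order is trivial. -/
theorem aut_pow_three (hP : IsPGroup 2 P)
    (hu : ∀ x y : P, x * x = 1 → x ≠ 1 → y * y = 1 → y ≠ 1 → x = y) (h8 : Nat.card P = 8)
    (hc : ¬ IsCyclic P) (φ : MulAut P) {n : ℕ} (hn : Odd n) (hφ : φ ^ n = 1) : φ ^ 3 = 1 := by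
  classical
  haveI := Fintype.ofFinite P
  refine MulEquiv.ext fun x => ?_
  show (φ ^ 3) x = x
  obtain ⟨m, hm⟩ := orderOf_two_pow hP x
  have hm3 : orderOf x ∣ 8 := h8 ▸ orderOf_dvd_natCard x
  have hn8 : orderOf x ≠ 8 := fun h => hc (isCyclic_of_orderOf_eq_card x (by rw [h, h8]))
  rcases Nat.lt_or_ge (orderOf x) 3 with hlt | hge
  · by_cases hx1 : x = 1
    · rw [hx1, map_one]
    have hx2 : orderOf x = 2 := by
      have := orderOf_pos x
      have : orderOf x ≠ 1 := fun h => hx1 (orderOf_eq_one_iff.1 h)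
      omega
    have hxx : x * x = 1 := by rw [← pow_two, ← hx2, pow_orderOf_eq_one]
    refine hu _ _ ?_ ?_ hxx hx1
    · rw [← map_mul, hxx, map_one]
    · exact fun h => hx1 ((φ ^ 3).injective (h.trans (map_one _).symm))
  have hx4 : orderOf x = 4 := by
    have := Nat.le_of_dvd (by norm_num) hm3
    have h := hm3
    interval_cases hk : orderOf x <;> first | rfl | omega
  obtain ⟨f, hf⟩ : ∃ f : P → P, f = fun y => φ y := ⟨_, rfl⟩
  have hfi : ∀ i : ℕ, f^[i] x = (φ ^ i) x := by
    intro i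
    induction i with
    | zero => rfl
    | succ i ih => rw [Function.iterate_succ_apply', pow_succ', MulAut.mul_apply, ih, hf]
  set r := Function.minimalPeriod f x with hr
  have hrn : r ∣ n := Function.IsPeriodicPt.minimalPeriod_dvd (by
    show f^[n] x = x
    rw [hfi, hφ]; rfl)
  have hrodd : Odd r := hn.of_dvd_nat hrn
  have hr0 : 0 < r := hrodd.pos
  set O := (Finset.range r).image fun i => f^[i] x with hO
  have hOcard : O.card = r := by
    rw [hO, Finset.card_image_of_injOn, Finset.card_range]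
    intro i hi j hj hij
    exact Function.iterate_injOn_Iio_minimalPeriod (by simpa using hi) (by simpa using hj) hij
  have hdis : Disjoint O (O.image fun y => y⁻¹) := by
    rw [Finset.disjoint_left]
    intro y hy hy'
    obtain ⟨i, -, hi⟩ := Finset.mem_image.1 hy
    obtain ⟨z, hz, hzy⟩ := Finset.mem_image.1 hy'
    obtain ⟨j, -, hj⟩ := Finset.mem_image.1 hz
    have hij : (φ ^ i) x = ((φ ^ j) x)⁻¹ := by rw [← hfi, ← hfi, hi, hj, hzy]
    have h2 : ∀ u v : ℕ, (φ ^ u) x = ((φ ^ v) x)⁻¹ → u ≤ v → False := by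
      intro u v huv hle
      obtain ⟨d, rfl⟩ := Nat.le.dest hle
      rw [pow_add, MulAut.mul_apply, ← map_inv] at huv
      have e1 : x = ((φ ^ d) x)⁻¹ := (φ ^ u).injective huv
      have e2 : (φ ^ d) x = x⁻¹ := by rw [e1, inv_inv]; rw [← e1]
      have hd2 : Function.IsPeriodicPt f (2 * d) x := by
        show f^[2 * d] x = x
        rw [hfi, two_mul, pow_add, MulAut.mul_apply, e2, map_inv, e2, inv_inv]
      have hd : r ∣ d := (Nat.Coprime.dvd_of_dvd_mul_left (Nat.coprime_two_right.2 hrodd)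
        hd2.minimalPeriod_dvd)
      have hd1 : f^[d] x = x := (Function.isPeriodicPt_iff_minimalPeriod_dvd.2 hd)
      rw [hfi, e2] at hd1
      have hxx : x * x = 1 := by
        nth_rw 1 [← hd1]
        rw [inv_mul_cancel]
      have := Nat.le_of_dvd (show 0 < 2 by norm_num)
        (orderOf_dvd_of_pow_eq_one (show x ^ 2 = 1 by rw [pow_two]; exact hxx))
      omega
    rcases Nat.le_total i j with h | h
    · exact h2 i j hij h
    · exact h2 j i (by rw [hij, inv_inv]) h
  obtain ⟨c, -, hc4, -⟩ := quaternion_data hP hu hc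
  have hsub : O ∪ O.image (fun y => y⁻¹) ⊆
      ((Finset.univ : Finset P).erase 1).erase (x * x) := by
    intro y hy
    have hy4 : orderOf y = 4 := by
      rcases Finset.mem_union.1 hy with h | h
      · obtain ⟨i, -, rfl⟩ := Finset.mem_image.1 h
        rw [hfi, MulEquiv.orderOf_eq, hx4]
      · obtain ⟨z, hz, rfl⟩ := Finset.mem_image.1 h
        obtain ⟨i, -, rfl⟩ := Finset.mem_image.1 hz
        rw [orderOf_inv, hfi, MulEquiv.orderOf_eq, hx4]
    refine Finset.mem_erase.2 ⟨fun h => ?_, Finset.mem_erase.2 ⟨fun h => ?_, Finset.mem_univ _⟩⟩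
    · have : orderOf y ∣ 2 := by
        rw [h]
        refine orderOf_dvd_of_pow_eq_one ?_
        rw [← pow_two, ← pow_mul, show 2 * 2 = orderOf x by omega, pow_orderOf_eq_one]
      rw [hy4] at this
      omega
    · rw [h, orderOf_one] at hy4
      omega
  have hle := Finset.card_le_card hsub
  have hxx1 : x * x ≠ 1 := fun h => by
    have := Nat.le_of_dvd (by norm_num) (orderOf_dvd_of_pow_eq_one (show x ^ 2 = 1 by rw [pow_two]; exact h))
    omega
  rw [Finset.card_union_of_disjoint hdis, Finset.card_image_of_injective _ inv_injective, hOcard,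
    Finset.card_erase_of_mem (Finset.mem_erase.2 ⟨hxx1, Finset.mem_univ _⟩),
    Finset.card_erase_of_mem (Finset.mem_univ _), Finset.card_univ, ← Nat.card_eq_fintype_card,
    h8] at hle
  have hr3 : r ∣ 3 := by
    obtain ⟨q, hq⟩ := hrodd
    rcases (show r = 1 ∨ r = 3 by omega) with h | h <;> rw [h]
    exact one_dvd _
  rw [← hfi]
  exact Function.isPeriodicPt_iff_minimalPeriod_dvd.2 hr3

/-- An automorphism of order two of a non-cyclic 2-group with a single involution fixes a cyclic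
subgroup of index two, outside which all elements have order four. -/
theorem exists_invariant (hP : IsPGroup 2 P)
    (hu : ∀ x y : P, x * x = 1 → x ≠ 1 → y * y = 1 → y ≠ 1 → x = y) (hc : ¬ IsCyclic P)
    (φ : MulAut P) (hφ : ∀ x, φ (φ x) = x) :
    ∃ a : P, (Subgroup.zpowers a).index = 2 ∧ 4 ≤ orderOf a ∧
      (∀ x, x ∉ Subgroup.zpowers a → orderOf x = 4) ∧ φ a ∈ Subgroup.zpowers a := by
  obtain ⟨a, hidx, h4, hout⟩ := quaternion_data hP hu hc
  by_cases hmem : φ a ∈ Subgroup.zpowers a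
  · exact ⟨a, hidx, h4, hout, hmem⟩
  have ha4 : orderOf a = 4 := (MulEquiv.orderOf_eq φ a).symm.trans (hout _ hmem)
  have hP8 : Nat.card P = 8 := by
    rw [← Subgroup.index_mul_card (Subgroup.zpowers a), hidx, Nat.card_zpowers, ha4]
  have hb4 : orderOf (φ a) = 4 := by rw [MulEquiv.orderOf_eq, ha4]
  have hsq : ∀ y : P, orderOf y = 4 → (y * y) * (y * y) = 1 ∧ y * y ≠ 1 := fun y hy => by
    refine ⟨?_, fun h => ?_⟩
    · rw [← mul_assoc, show y * y * y * y = y ^ 4 by simp only [pow_succ, pow_zero, one_mul], ← hy,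
        pow_orderOf_eq_one]
    · have := Nat.le_of_dvd (by norm_num) (orderOf_dvd_of_pow_eq_one (show y ^ 2 = 1 by rw [pow_two]; exact h))
      omega
  have hzz : φ a * φ a = a * a := hu _ _ (hsq _ hb4).1 (hsq _ hb4).2 (hsq _ ha4).1 (hsq _ ha4).2
  have hy : φ (a * φ a) * (a * φ a) = 1 := by
    rw [map_mul, hφ]
    calc φ a * a * (a * φ a) = φ a * (a * a) * φ a := by group
      _ = φ a * (φ a * φ a) * φ a := by rw [hzz]
      _ = (φ a * φ a) * (φ a * φ a) := by group
      _ = 1 := (hsq _ hb4).1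
  have hynot : a * φ a ∉ Subgroup.zpowers a := fun h => hmem (by
    rw [← inv_mul_cancel_left a (φ a)]
    exact mul_mem (inv_mem (Subgroup.mem_zpowers a)) h)
  have hy4 : orderOf (a * φ a) = 4 := hout _ hynot
  have hyidx : (Subgroup.zpowers (a * φ a)).index = 2 := by
    have h1 := Subgroup.index_mul_card (Subgroup.zpowers (a * φ a))
    rw [Nat.card_zpowers, hy4, hP8] at h1
    omega
  refine ⟨a * φ a, hyidx, by omega, fun x hx => ?_, ?_⟩
  · obtain ⟨m, hm⟩ := orderOf_two_pow hP x
    have hdvd : orderOf x ∣ 8 := hP8 ▸ orderOf_dvd_natCard x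
    have hne8 : orderOf x ≠ 8 := fun h => hc (isCyclic_of_orderOf_eq_card x (by rw [h, hP8]))
    have hne2 : ¬ orderOf x ∣ 2 := fun h => hx (by
      have hxx : x * x = 1 := by rw [← pow_two]; exact orderOf_dvd_iff_pow_eq_one.1 h
      by_cases hx1 : x = 1
      · rw [hx1]; exact one_mem _
      · rw [hu x _ hxx hx1 (hsq _ hy4).1 (hsq _ hy4).2]
        exact mul_mem (Subgroup.mem_zpowers _) (Subgroup.mem_zpowers _))
    obtain ⟨i, hi, hi'⟩ := (Nat.dvd_prime_pow Nat.prime_two).1
      (show orderOf x ∣ 2 ^ 3 by norm_num; exact hdvd)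
    rw [hi'] at hne2 hne8 ⊢
    interval_cases i
    · exact absurd (one_dvd 2) hne2
    · exact absurd (dvd_refl 2) hne2
    · rfl
    · exact absurd rfl hne8
  · rw [eq_inv_of_mul_eq_one_left hy]
    exact inv_mem (Subgroup.mem_zpowers _)

end CfsgLib.Zassenhaus.Even
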