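import Cfsg.Agent.Zassenhaus.Basic
import Cfsg.Agent.Zassenhaus.Even.Complement
import Cfsg.Agent.Perm.SharplyThree

/-!
# Two-point stabilisers of even order: the exchanging involution
-/

set_option autoImplicit false
set_option linter.style.haveILetI false

namespace CfsgLib.Zassenhaus.Even

open MulAction

variable {G Ω : Type*} [Group G] [MulAction G Ω]

/-- A frame of a Zassenhaus group: two points, the kernel at the first one, the involution fixing
both and an exchanging involution with a fixed point. -/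
structure Frame (G Ω : Type*) [Group G] [MulAction G Ω] where
  hZ : Cfsg.IsZassenhausGroup G Ω
  a : Ω
  b : Ω
  ne : a ≠ b
  K : Subgroup G
  K_le : K ≤ stabilizer G a
  K_conj : ∀ h ∈ stabilizer G a, ∀ x ∈ K, h * x * h⁻¹ ∈ K
  K_fix : ∀ x ∈ K, x ≠ 1 → ∀ c : Ω, x • c = c → c = a
  K_trans : ∀ c : Ω, c ≠ a → ∃ x ∈ K, x • b = c
  K_card : Nat.card K + 1 = Nat.card Ω
  K_comm : ∀ x ∈ K, ∀ y ∈ K, x * y = y * x
  j : G
  j_mem : j • a = a ∧ j • b = b
  j_order : orderOf j = 2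
  j_unique : ∀ x : G, x • a = a → x • b = b → x * x = 1 → x = 1 ∨ x = j
  w : G
  w_sq : w * w = 1
  w_a : w • a = b
  w_b : w • b = a
  c₀ : Ω
  c₀_a : c₀ ≠ a
  c₀_b : c₀ ≠ b
  w_c₀ : w • c₀ = c₀

theorem exists_frame [Finite G] [Finite Ω] (hZ : Cfsg.IsZassenhausGroup G Ω) {a b : Ω} (hab : a ≠ b)
    (heven : Even (Nat.card ↥(stabilizer G a ⊓ stabilizer G b))) :
    ∃ F : Frame G Ω, F.a = a ∧ F.b = b := by
  classical
  haveI := hZ.1
  haveI : Fact (Nat.Prime 2) := ⟨Nat.prime_two⟩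
  obtain ⟨K, hKle, hKconj, hKfix, hKtr, -, hKcard, -⟩ := Zassenhaus.exists_kernel hZ a
  obtain ⟨⟨j, hjmem⟩, hj⟩ := exists_prime_orderOf_dvd_card'
    (G := ↥(stabilizer G a ⊓ stabilizer G b)) 2 heven.two_dvd
  have hjord : orderOf j = 2 := by rw [← hj, ← Subgroup.orderOf_coe]
  have hja : j • a = a := (Subgroup.mem_inf.1 hjmem).1
  have hjb : j • b = b := (Subgroup.mem_inf.1 hjmem).2
  clear hjmem hj
  -- involutions fixing both points invert the kernel
  have hinv : ∀ t : G, t • a = a → t • b = b → t * t = 1 → t ≠ 1 → ∀ x ∈ K, t * x * t⁻¹ = x⁻¹ := by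
    intro t hta htb ht ht1 z hz
    let φ : K → K := fun x => ⟨(x : G)⁻¹ * (t * x * t⁻¹),
      K.mul_mem (K.inv_mem x.2) (hKconj t hta _ x.2)⟩
    have hφ : Function.Injective φ := by
      intro p q hpq
      have h1 : (p : G)⁻¹ * (t * p * t⁻¹) = (q : G)⁻¹ * (t * q * t⁻¹) := congrArg Subtype.val hpq
      have h2 : t * ((q : G) * (p : G)⁻¹) = (q : G) * (p : G)⁻¹ * t := by
        calc t * ((q : G) * (p : G)⁻¹) = (q : G) * ((q : G)⁻¹ * (t * q * t⁻¹)) * (t * (p : G)⁻¹) := by group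
          _ = (q : G) * ((p : G)⁻¹ * (t * p * t⁻¹)) * (t * (p : G)⁻¹) := by rw [h1]
          _ = _ := by group
      by_contra hne
      have hy1 : (q : G) * (p : G)⁻¹ ≠ 1 := fun h => hne (Subtype.ext (mul_inv_eq_one.1 h).symm)
      have hyK : (q : G) * (p : G)⁻¹ ∈ K := K.mul_mem q.2 (K.inv_mem p.2)
      have hc : t • ((q : G) * (p : G)⁻¹) • b = ((q : G) * (p : G)⁻¹) • b := by
        rw [← mul_smul, h2, mul_smul, htb]
      exact ht1 (Zassenhaus.eq_one hZ hab
        (fun h => hab.symm (hKfix _ hyK hy1 b h.symm))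
        (fun h => hab ((smul_left_cancel_iff ((q : G) * (p : G)⁻¹)).1 ((hKle hyK).trans h)))
        hta htb hc)
    obtain ⟨x, hx⟩ := (Finite.injective_iff_surjective.1 hφ) ⟨z, hz⟩
    have hxz : (x : G)⁻¹ * (t * x * t⁻¹) = z := congrArg Subtype.val hx
    rw [← hxz]
    calc t * ((x : G)⁻¹ * (t * x * t⁻¹)) * t⁻¹
        = (t * (x : G) * t⁻¹)⁻¹ * (t * t * x * (t * t)⁻¹) := by group
      _ = _ := by rw [ht]; group
  have hjsq : j * j = 1 := by rw [← pow_two, ← hjord, pow_orderOf_eq_one]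
  have hj1 : j ≠ 1 := fun h => by rw [h, orderOf_one] at hjord; omega
  obtain ⟨g, hgK, hg1⟩ : ∃ g ∈ K, g ≠ 1 := by
    haveI := Fintype.ofFinite Ω
    have h3 := CfsgLib.Perm.Zassenhaus.card_ge_three hZ
    rw [← Nat.card_eq_fintype_card] at h3
    have h4 : K ≠ ⊥ := fun h => by rw [h, Subgroup.card_bot] at hKcard; omega
    by_contra hc
    push Not at hc
    exact h4 ((Subgroup.eq_bot_iff_forall K).2 hc)
  have huniq : ∀ x : G, x • a = a → x • b = b → x * x = 1 → x = 1 ∨ x = j := by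
    intro x hxa hxb hx
    by_cases hx1 : x = 1
    · exact Or.inl hx1
    refine Or.inr ?_
    have e1 := hinv x hxa hxb hx hx1 g hgK
    have e2 := hinv j hja hjb hjsq hj1 g hgK
    have hc : j⁻¹ * x * g = g * (j⁻¹ * x) := by
      calc j⁻¹ * x * g = j⁻¹ * (x * g * x⁻¹) * x := by group
        _ = j⁻¹ * (j * g * j⁻¹) * x := by rw [e1, e2]
        _ = g * (j⁻¹ * x) := by group
    refine (inv_mul_eq_one.1 (Zassenhaus.eq_one hZ hab (c := g • b)
      (fun h => hab.symm (hKfix g hgK hg1 b h.symm))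
      (fun h => hab ((smul_left_cancel_iff g).1 ((hKle hgK).trans h))) ?_ ?_ ?_)).symm
    · rw [mul_smul, hxa, inv_smul_eq_iff, hja]
    · rw [mul_smul, hxb, inv_smul_eq_iff, hjb]
    · rw [← mul_smul, hc, mul_smul, mul_smul, hxb, inv_smul_eq_iff.2 hjb.symm]
  have hKcomm : ∀ x ∈ K, ∀ y ∈ K, x * y = y * x := by
    intro x hx y hy
    have e := hinv j hja hjb hjsq hj1 (x * y) (K.mul_mem hx hy)
    rw [show j * (x * y) * j⁻¹ = j * x * j⁻¹ * (j * y * j⁻¹) by group,
      hinv _ hja hjb hjsq hj1 x hx, hinv _ hja hjb hjsq hj1 y hy, ← mul_inv_rev] at e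
    exact (inv_injective e).symm
  -- a point moved by `j` and the exchanging involution
  obtain ⟨c, hca, hcb, hc⟩ : ∃ c : Ω, c ≠ a ∧ c ≠ b ∧ j • c ≠ c := by
    by_contra hc
    push Not at hc
    refine hj1 (eq_of_smul_eq_smul (α := Ω) fun x => ?_)
    rw [one_smul]
    by_cases hxa : x = a
    · rw [hxa, hja]
    by_cases hxb : x = b
    · rw [hxb, hjb]
    exact hc x hxa hxb
  obtain ⟨k, hka, hkb⟩ := MulAction.is_two_pretransitive_iff.1 hZ.2.1 (Ne.symm hc) hab
  refine ⟨⟨hZ, a, b, hab, K, hKle, hKconj, hKfix, fun d hd => hKtr b d hab.symm hd, hKcard, hKcomm,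
    j, ⟨hja, hjb⟩, hjord, huniq, k * j * k⁻¹, ?_, ?_, ?_, k • a, ?_, ?_, ?_⟩, rfl, rfl⟩
  · rw [conj_mul, hjsq, mul_one, mul_inv_cancel]
  · rw [← hka, mul_smul, mul_smul, inv_smul_smul, hkb]
  · rw [← hkb, mul_smul, mul_smul, inv_smul_smul, ← mul_smul j j, hjsq, one_smul, hka]
  · exact fun h => hca ((smul_left_cancel_iff k).1 (hka.trans h.symm))
  · rw [← hkb]
    intro h
    have h' : a = j • c := (smul_left_cancel_iff k).1 h
    refine hca ((smul_left_cancel_iff j).1 ?_)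
    rw [← h', hja]
  · rw [mul_smul, mul_smul, inv_smul_smul, hja]

namespace Frame

variable (F : Frame G Ω)

/-- The two-point stabiliser. -/
abbrev E : Subgroup G := stabilizer G F.a ⊓ stabilizer G F.b

theorem mem_E {x : G} : x ∈ F.E ↔ x • F.a = F.a ∧ x • F.b = F.b := Iff.rfl

theorem j_mem_E : F.j ∈ F.E := F.j_mem

theorem j_sq : F.j * F.j = 1 := by rw [← pow_two, ← F.j_order, pow_orderOf_eq_one]

theorem j_ne : F.j ≠ 1 := fun h => by
  have := F.j_order
  rw [h, orderOf_one] at this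
  omega

theorem w_notMem : F.w ∉ F.E := fun h => F.ne (((F.mem_E.1 h).1).symm.trans F.w_a)

theorem w_inv : F.w⁻¹ = F.w := inv_eq_of_mul_eq_one_right F.w_sq

theorem w_ne : F.w ≠ 1 := fun h => F.w_notMem (h ▸ one_mem _)

theorem conj_w_mem {e : G} (he : e ∈ F.E) : F.w * e * F.w ∈ F.E :=
  F.mem_E.2 ⟨by rw [mul_smul, mul_smul, F.w_a, (F.mem_E.1 he).2, F.w_b],
    by rw [mul_smul, mul_smul, F.w_b, (F.mem_E.1 he).1, F.w_a]⟩

/-- Conjugation by the exchanging involution. -/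
def σ : MulAut F.E where
  toFun e := ⟨F.w * e * F.w, F.conj_w_mem e.2⟩
  invFun e := ⟨F.w * e * F.w, F.conj_w_mem e.2⟩
  left_inv e := Subtype.ext (by
    show F.w * (F.w * (e : G) * F.w) * F.w = e
    calc F.w * (F.w * (e : G) * F.w) * F.w = (F.w * F.w) * e * (F.w * F.w) := by group
      _ = e := by rw [F.w_sq, one_mul, mul_one])
  right_inv e := Subtype.ext (by
    show F.w * (F.w * (e : G) * F.w) * F.w = e
    calc F.w * (F.w * (e : G) * F.w) * F.w = (F.w * F.w) * e * (F.w * F.w) := by group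
      _ = e := by rw [F.w_sq, one_mul, mul_one])
  map_mul' e f := Subtype.ext (by
    show F.w * ((e : G) * f) * F.w = F.w * e * F.w * (F.w * f * F.w)
    calc F.w * ((e : G) * f) * F.w = F.w * e * (F.w * F.w) * f * F.w := by rw [F.w_sq]; group
      _ = _ := by group)

theorem σ_apply (e : F.E) : ((F.σ e : F.E) : G) = F.w * e * F.w := rfl

variable [Finite Ω]

/-- The fixed points of `σ`. -/
theorem σ_fixed {e : F.E} (h : F.σ e = e) : (e : G) = 1 ∨ (e : G) = F.j := by
  have h1 : F.w * (e : G) * F.w = e := congrArg Subtype.val h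
  have hc : (e : G) * F.w = F.w * e := by
    calc (e : G) * F.w = F.w * (e : G) * F.w * F.w := by rw [h1]
      _ = F.w * (e : G) := by rw [mul_assoc, F.w_sq, mul_one]
  obtain ⟨hea, heb⟩ := F.mem_E.1 e.2
  refine F.j_unique _ hea heb ?_
  by_cases hfix : (e : G) • F.c₀ = F.c₀
  · rw [Zassenhaus.eq_one F.hZ F.ne (Ne.symm F.c₀_b) (Ne.symm F.c₀_a) hea heb hfix, one_mul]
  refine Zassenhaus.eq_one F.hZ F.ne (Ne.symm F.c₀_b) (Ne.symm F.c₀_a)
    (by rw [mul_smul, hea, hea]) (by rw [mul_smul, heb, heb]) ?_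
  have hw : F.w • ((e : G) • F.c₀) = (e : G) • F.c₀ := by rw [← mul_smul, ← hc, mul_smul, F.w_c₀]
  have hw2 : F.w • ((e : G) • (e : G) • F.c₀) = (e : G) • (e : G) • F.c₀ := by
    rw [← mul_smul, ← hc, mul_smul, hw]
  rw [mul_smul]
  by_contra hne
  exact F.w_ne (Zassenhaus.eq_one F.hZ (Ne.symm hfix)
    (fun h => hfix ((smul_left_cancel_iff (e : G)).1 h).symm) (Ne.symm hne) F.w_c₀ hw hw2)

theorem free {e x : G} (he : e ∈ F.E) (hx : x ∈ F.K) (hx1 : x ≠ 1) (hc : e * x = x * e) : e = 1 :=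
  Zassenhaus.eq_one F.hZ F.ne (c := x • F.b)
    (fun h => F.ne.symm (F.K_fix x hx hx1 F.b h.symm))
    (fun h => F.ne ((smul_left_cancel_iff x).1 ((F.K_le hx).trans h)))
    (F.mem_E.1 he).1 (F.mem_E.1 he).2
    (by rw [← mul_smul, hc, mul_smul, (F.mem_E.1 he).2])

omit [Finite Ω] in
theorem conj_smul {e x : G} (he : e ∈ F.E) : (e * x * e⁻¹) • F.b = e • x • F.b := by
  rw [mul_smul, mul_smul, inv_smul_eq_iff.2 (F.mem_E.1 he).2.symm]

omit [Finite Ω] in
theorem eq_of_smul {x y : G} (hx : x ∈ F.K) (hy : y ∈ F.K) (h : x • F.b = y • F.b) : x = y := by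
  by_contra hne
  exact F.ne.symm (F.K_fix (y⁻¹ * x) (F.K.mul_mem (F.K.inv_mem hy) hx)
    (fun h1 => hne (inv_mul_eq_one.1 h1).symm) F.b (by rw [mul_smul, h, inv_smul_smul]))

/-- The centraliser of `j` is the set stabiliser of the two points. -/
theorem cent_j {g : G} (hg : g * F.j = F.j * g) : g ∈ F.E ∨ F.w * g ∈ F.E := by
  have hfix : ∀ c : Ω, F.j • c = c → c = F.a ∨ c = F.b := fun c hc => by
    by_contra hne
    rw [not_or] at hne
    exact F.j_ne (Zassenhaus.eq_one F.hZ F.ne (Ne.symm hne.2) (Ne.symm hne.1) F.j_mem.1 F.j_mem.2 hc)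
  have hga := hfix (g • F.a) (by rw [← mul_smul, ← hg, mul_smul, F.j_mem.1])
  have hgb := hfix (g • F.b) (by rw [← mul_smul, ← hg, mul_smul, F.j_mem.2])
  rcases hga with h1 | h1 <;> rcases hgb with h2 | h2
  · exact absurd (MulAction.injective g (h1.trans h2.symm)) F.ne
  · exact Or.inl (F.mem_E.2 ⟨h1, h2⟩)
  · exact Or.inr (F.mem_E.2 ⟨by rw [mul_smul, h1, F.w_b], by rw [mul_smul, h2, F.w_a]⟩)
  · exact absurd (MulAction.injective g (h1.trans h2.symm)) F.ne

omit [Finite Ω] in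
theorem w_j : F.w * F.j = F.j * F.w := by
  have h1 := F.conj_w_mem F.j_mem_E
  rcases F.j_unique _ (F.mem_E.1 h1).1 (F.mem_E.1 h1).2 (by
    calc F.w * F.j * F.w * (F.w * F.j * F.w) = F.w * (F.j * ((F.w * F.w) * F.j)) * F.w := by group
      _ = 1 := by rw [F.w_sq, one_mul, F.j_sq, mul_one, F.w_sq]) with h | h
  · exact absurd (by
      calc F.j = (F.w * F.w) * F.j * (F.w * F.w) := by rw [F.w_sq, one_mul, mul_one]
        _ = F.w * (F.w * F.j * F.w) * F.w := by group
        _ = 1 := by rw [h, mul_one, F.w_sq]) F.j_ne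
  · calc F.w * F.j = F.w * F.j * F.w * F.w := by rw [mul_assoc, F.w_sq, mul_one]
      _ = F.j * F.w := by rw [h]

instance : IsMulCommutative F.K := ⟨⟨fun x y => Subtype.ext (F.K_comm x x.2 y y.2)⟩⟩

open scoped IsMulCommutative

/-- The kernel as an additive module. -/
abbrev V : Type _ := Additive F.K

/-- Conjugation of the two-point stabiliser on the kernel. -/
noncomputable def rep : F.E →* AddMonoid.End F.V where
  toFun e := AddMonoidHom.mk'
    (fun x => Additive.ofMul ⟨(e : G) * ((Additive.toMul x : F.K) : G) * (e : G)⁻¹,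
      F.K_conj e (F.mem_E.1 e.2).1 _ (Additive.toMul x).2⟩)
    (fun x y => congrArg Additive.ofMul (Subtype.ext (by
      show (e : G) * (((Additive.toMul x : F.K) : G) * ((Additive.toMul y : F.K) : G)) * (e : G)⁻¹ =
        (e : G) * ((Additive.toMul x : F.K) : G) * (e : G)⁻¹ *
          ((e : G) * ((Additive.toMul y : F.K) : G) * (e : G)⁻¹)
      group)))
  map_one' := AddMonoidHom.ext fun x => Additive.toMul.injective (Subtype.ext (by
    show (1 : G) * ((Additive.toMul x : F.K) : G) * (1 : G)⁻¹ = ((Additive.toMul x : F.K) : G)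
    group))
  map_mul' e f := AddMonoidHom.ext fun x => Additive.toMul.injective (Subtype.ext (by
    show ((e : G) * f) * ((Additive.toMul x : F.K) : G) * ((e : G) * f)⁻¹ =
      (e : G) * ((f : G) * ((Additive.toMul x : F.K) : G) * (f : G)⁻¹) * (e : G)⁻¹
    group))

omit [Finite Ω] in
theorem rep_apply (e : F.E) (x : F.V) : ((Additive.toMul (F.rep e x) : F.K) : G) =
    (e : G) * ((Additive.toMul x : F.K) : G) * (e : G)⁻¹ := rfl

theorem rep_free : ∀ e : F.E, e ≠ 1 → ∀ x : F.V, F.rep e x = x → x = 0 := by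
  intro e he x hx
  by_contra hx0
  have h1 : (e : G) * ((Additive.toMul x : F.K) : G) * (e : G)⁻¹ = ((Additive.toMul x : F.K) : G) :=
    (F.rep_apply e x).symm.trans (congrArg (fun y : F.V => ((Additive.toMul y : F.K) : G)) hx)
  exact he (Subtype.ext (F.free e.2 (Additive.toMul x).2
    (fun h => hx0 (Additive.toMul.injective (Subtype.ext h))) (mul_inv_eq_iff_eq_mul.1 h1)))

variable [Finite G]

/-- In the sharply triply transitive case `σ` satisfies the abstract hypotheses. -/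
theorem swapAut (hd : Nat.card F.E + 2 = Nat.card Ω) :
    SwapAut F.σ (⟨F.j, F.j_mem_E⟩ : F.E) := by
  classical
  haveI := Fintype.ofFinite Ω
  haveI := Fintype.ofFinite G
  -- transitivity on the remaining points
  have htr : ∀ c : Ω, c ≠ F.a → c ≠ F.b → ∃ e ∈ F.E, e • F.c₀ = c := by
    intro c hca hcb
    let f : F.E → {d : Ω // d ≠ F.a ∧ d ≠ F.b} := fun e => ⟨(e : G) • F.c₀,
      fun h => F.c₀_a ((smul_left_cancel_iff (e : G)).1 (h.trans (F.mem_E.1 e.2).1.symm)),
      fun h => F.c₀_b ((smul_left_cancel_iff (e : G)).1 (h.trans (F.mem_E.1 e.2).2.symm))⟩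
    have hf : Function.Injective f := by
      intro p q hpq
      have h1 : (p : G) • F.c₀ = (q : G) • F.c₀ := congrArg Subtype.val hpq
      have hm := F.E.mul_mem (F.E.inv_mem q.2) p.2
      exact Subtype.ext (inv_mul_eq_one.1 (Zassenhaus.eq_one F.hZ F.ne (Ne.symm F.c₀_b)
        (Ne.symm F.c₀_a) (F.mem_E.1 hm).1 (F.mem_E.1 hm).2
        (by rw [mul_smul, h1, inv_smul_smul]))).symm
    have hcard : Nat.card {d : Ω // d ≠ F.a ∧ d ≠ F.b} ≤ Nat.card F.E := by
      have h1 : (Finset.univ.filter fun d : Ω => d ≠ F.a ∧ d ≠ F.b) = ({F.a, F.b} : Finset Ω)ᶜ := by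
        ext d; simp
      rw [Nat.card_eq_fintype_card, Fintype.card_subtype, h1, Finset.card_compl,
        Finset.card_pair F.ne, ← Nat.card_eq_fintype_card]
      omega
    obtain ⟨e, he⟩ := (hf.bijective_of_nat_card_le hcard).2 ⟨c, hca, hcb⟩
    exact ⟨e, e.2, congrArg Subtype.val he⟩
  have h3 : IsMultiplyPretransitive G Ω 3 := by
    have key : ∀ x : Fin 3 ↪ Ω, ∃ g : G, g • x 0 = F.a ∧ g • x 1 = F.b ∧ g • x 2 = F.c₀ := by
      intro x
      obtain ⟨g, hga, hgb⟩ := MulAction.is_two_pretransitive_iff.1 F.hZ.2.1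
        (x.injective.ne (show (0 : Fin 3) ≠ 1 by decide)) F.ne
      obtain ⟨e, he, hec⟩ := htr (g • x 2)
        (fun h => x.injective.ne (show (2 : Fin 3) ≠ 0 by decide) (MulAction.injective g (h.trans hga.symm)))
        (fun h => x.injective.ne (show (2 : Fin 3) ≠ 1 by decide) (MulAction.injective g (h.trans hgb.symm)))
      refine ⟨e⁻¹ * g, ?_, ?_, ?_⟩
      · rw [mul_smul, hga, inv_smul_eq_iff, (F.mem_E.1 he).1]
      · rw [mul_smul, hgb, inv_smul_eq_iff, (F.mem_E.1 he).2]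
      · rw [mul_smul, ← hec, inv_smul_smul]
    refine ⟨fun x y => ?_⟩
    obtain ⟨g, g0, g1, g2⟩ := key x
    obtain ⟨g', h0, h1, h2⟩ := key y
    refine ⟨g'⁻¹ * g, DFunLike.ext _ _ fun i => ?_⟩
    show (g'⁻¹ * g) • x i = y i
    rw [mul_smul, inv_smul_eq_iff]
    fin_cases i
    · exact g0.trans h0.symm
    · exact g1.trans h1.symm
    · exact g2.trans h2.symm
  refine ⟨fun e => F.σ.left_inv e, Subtype.ext F.j_sq, fun h => F.j_ne (congrArg Subtype.val h),
    fun x hx => ?_, fun e he => ?_, fun t ht => ?_, ?_⟩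
  · exact (F.j_unique x (F.mem_E.1 x.2).1 (F.mem_E.1 x.2).2 (congrArg Subtype.val hx)).imp
      (fun e => Subtype.ext e) (fun e => Subtype.ext e)
  · exact (F.σ_fixed he).imp (fun e => Subtype.ext e) (fun e => Subtype.ext e)
  · refine Subtype.ext ?_
    have h := Perm.SharplyThree.swap_inverts h3
      (fun g p q r hpq hpr hqr hp hq hr => Zassenhaus.eq_one F.hZ hpq hqr hpr hp hq hr)
      F.ne (Ne.symm F.c₀_a) (Ne.symm F.c₀_b) (F.mem_E.1 t.2).1 (F.mem_E.1 t.2).2
      (by rw [Subgroup.orderOf_coe, ht]) F.w_a F.w_b F.w_c₀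
    rw [F.w_inv] at h
    exact h
  · intro p q hp hq hpq
    haveI : Nontrivial F.K := Finite.one_lt_card_iff_nontrivial.1 (by
      have h := CfsgLib.Perm.Zassenhaus.card_ge_three F.hZ
      rw [← Nat.card_eq_fintype_card, ← F.K_card] at h
      omega)
    exact FrobComp.mem_zpowers_of_free (M := Additive F.K) (ρ := F.rep) F.rep_free
      (p := 3) (hp := ⟨Nat.prime_three⟩) hp hq hpq

end Frame

end CfsgLib.Zassenhaus.Even
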